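import Mathlib
import Groth.Prelude.Def_W4c4chowquasisplitPn

/-! A basis of `P n` adapted to the involution. -/

set_option autoImplicit false

open MvPolynomial QsChow

namespace Groth.Agent.QsChow84

theorem two_eq_zero (n : ℕ) : (2 : P n) = 0 := by
  have : (algebraMap (ZMod 2) (P n)) 2 = 0 := by rw [show (2 : ZMod 2) = 0 from rfl, map_zero]
  simpa [map_ofNat] using this

theorem add_self' (n : ℕ) (y : P n) : y + y = 0 := by
  rw [← two_mul, two_eq_zero, zero_mul]

/-- Dimension of `P n`: the product of the truncation exponents. -/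
theorem finrank_P (n : ℕ) :
    Module.Finite (ZMod 2) (P n) ∧
      Module.finrank (ZMod 2) (P n) = Fintype.card (∀ i : Fin (numVars n), Fin (bound n i)) := by
  classical
  let ex : (∀ i : Fin (numVars n), Fin (bound n i)) → (Fin (numVars n) →₀ ℕ) := fun c =>
    Finsupp.equivFunOnFinite.symm fun i => (c i).val
  let L : FreeP n →ₗ[ZMod 2] ((∀ i : Fin (numVars n), Fin (bound n i)) → ZMod 2) :=
    LinearMap.pi fun c => MvPolynomial.lcoeff (ZMod 2) (ex c)
  have hmem : ∀ F : FreeP n, F ∈ truncIdeal n ↔ L F = 0 := by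
    intro F
    have hs : truncIdeal n = Ideal.span ((fun d => monomial d (1 : ZMod 2)) ''
        Set.range fun i : Fin (numVars n) => Finsupp.single i (bound n i)) := by
      rw [truncIdeal, ← Set.range_comp]
      congr 1
      ext1
      simp [X_pow_eq_monomial]
    rw [hs, mem_ideal_span_monomial_image]
    constructor
    · intro h
      funext c
      show coeff (ex c) F = 0
      by_contra hne
      obtain ⟨_, ⟨i, rfl⟩, hle⟩ := h _ (mem_support_iff.2 hne)
      have h1 := hle i
      rw [Finsupp.single_eq_same] at h1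
      have h2 : (ex c) i < bound n i := (c i).isLt
      omega
    · intro h d hd
      by_contra hcon
      push Not at hcon
      have hlt : ∀ i, d i < bound n i := fun i => by
        have := hcon _ ⟨i, rfl⟩
        rw [Finsupp.single_le_iff] at this
        omega
      refine mem_support_iff.1 hd ?_
      have := congrFun h fun i => ⟨d i, hlt i⟩
      rwa [show d = ex (fun i => ⟨d i, hlt i⟩) from Finsupp.ext fun i => rfl]
  have hsurj : Function.Surjective L := by
    intro g
    refine ⟨∑ c, monomial (ex c) (g c), funext fun c' => ?_⟩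
    show coeff (ex c') (∑ c, monomial (ex c) (g c)) = g c'
    rw [coeff_sum, Finset.sum_eq_single c', coeff_monomial, if_pos rfl]
    · intro c _ hc
      rw [coeff_monomial, if_neg]
      exact fun h => hc (funext fun i => Fin.ext (DFunLike.congr_fun h i))
    · simp
  let π := (Ideal.Quotient.mkₐ (ZMod 2) (truncIdeal n)).toLinearMap
  have hker : LinearMap.ker π = LinearMap.ker L := by
    ext F
    rw [LinearMap.mem_ker, LinearMap.mem_ker, ← hmem]
    exact Ideal.Quotient.eq_zero_iff_mem
  let e : P n ≃ₗ[ZMod 2] ((∀ i : Fin (numVars n), Fin (bound n i)) → ZMod 2) :=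
    (LinearMap.quotKerEquivOfSurjective π Ideal.Quotient.mk_surjective).symm.trans
      ((Submodule.quotEquivOfEq _ _ hker).trans (L.quotKerEquivOfSurjective hsurj))
  exact ⟨Module.Finite.equiv e.symm, by rw [e.finrank_eq, Module.finrank_fintype_fun_eq_card]⟩

variable (n : ℕ)

/-- `ε₁`. -/
noncomputable abbrev a : P n := eps n 1
/-- `ε₂`. -/
noncomputable abbrev ε : P n := eps n 2
/-- `ε₂² + ε₁ ε₂`. -/
noncomputable abbrev e : P n := ε n ^ 2 + a n * ε n
/-- `ε_j + ε₁^(2j-4) ε₂`, `j = i + 3`. -/
noncomputable abbrev u (i : Fin (numVars n - 2)) : P n :=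
  eps n (i.val + 3) + a n ^ (2 * (i.val + 3) - 4) * ε n
/-- The truncation exponent of `ε_j`, `j = i + 3`. -/
abbrev Nj (i : Fin (numVars n - 2)) : ℕ := 2 ^ klog n (i.val + 3)
/-- Half the truncation exponent of `ε₂`. -/
abbrev hh : ℕ := 2 ^ (klog n 2 - 1)

/-- Indices of the basis of fixed monomials. -/
abbrev Idx : Type := Fin n × Fin (hh n) × (∀ i : Fin (numVars n - 2), Fin (Nj n i))

/-- The monomial `ε₁^k e^i u^f`. -/
noncomputable def b0 (x : Idx n) : P n :=
  a n ^ x.1.val * e n ^ x.2.1.val * ∏ i, u n i ^ (x.2.2 i).val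

/-- The span of the monomials. -/
noncomputable def W0 : Submodule (ZMod 2) (P n) := Submodule.span (ZMod 2) (Set.range (b0 n))

variable {n}

theorem numVars_two (hn : 2 ≤ n) : 2 ≤ numVars n := by unfold numVars; omega

theorem klog_two_pos (hn : 2 ≤ n) : 1 ≤ klog n 2 := by
  rw [klog]
  exact Nat.log_pos (by norm_num) (by omega)

theorem le_two_pow_klog {n j : ℕ} (hn : 2 ≤ n) (hj : 2 ≤ j) :
    n ≤ (2 * j - 3) * 2 ^ klog n j := by
  unfold klog
  have h := Nat.lt_pow_succ_log_self (b := 2) (by norm_num) ((2 * n - 1) / (2 * j - 3))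
  rw [pow_succ, Nat.div_lt_iff_lt_mul (by omega)] at h
  set m := 2 ^ Nat.log 2 ((2 * n - 1) / (2 * j - 3))
  have h' : m * 2 * (2 * j - 3) = 2 * ((2 * j - 3) * m) := by ring
  omega

theorem eps_pow_bound {j : ℕ} (h1 : 1 ≤ j) (h2 : j ≤ numVars n) :
    eps n j ^ (if j = 1 then n else 2 ^ klog n j) = 0 := by
  rw [eps, dif_pos ⟨h1, h2⟩, ← map_pow, Ideal.Quotient.eq_zero_iff_mem]
  have hb : bound n ⟨j - 1, by omega⟩ = if j = 1 then n else 2 ^ klog n j := by
    unfold bound
    rcases eq_or_ne j 1 with rfl | hj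
    · simp
    · rw [if_neg (show ¬ j - 1 = 0 by omega), if_neg hj, show j - 1 + 1 = j by omega]
  exact Ideal.subset_span ⟨⟨j - 1, by omega⟩, by simp only [hb]⟩

theorem a_pow (hn : 2 ≤ n) {k : ℕ} (hk : n ≤ k) : a n ^ k = 0 := by
  have := eps_pow_bound (n := n) (j := 1) le_rfl (by have := numVars_two hn; omega)
  rw [if_pos rfl] at this
  exact pow_eq_zero_of_le hk this

theorem ε_pow (hn : 2 ≤ n) {k : ℕ} (hk : 2 ^ klog n 2 ≤ k) : ε n ^ k = 0 := by
  have := eps_pow_bound (n := n) (j := 2) (by norm_num) (numVars_two hn)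
  rw [if_neg (by norm_num)] at this
  exact pow_eq_zero_of_le hk this

theorem u_pow (i : Fin (numVars n - 2)) :
    u n i ^ Nj n i = a n ^ ((2 * (i.val + 3) - 4) * Nj n i) * ε n ^ Nj n i := by
  have h := eps_pow_bound (n := n) (j := i.val + 3) (by omega) (by omega)
  rw [if_neg (by omega)] at h
  have hc : CharP (P n) 2 ∨ Subsingleton (P n) := by
    by_cases hs : Subsingleton (P n)
    · exact Or.inr hs
    · have : Nontrivial (P n) := not_subsingleton_iff_nontrivial.1 hs
      exact Or.inl (charP_of_injective_algebraMap (algebraMap (ZMod 2) (P n)).injective 2)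
  rcases hc with hc | hc
  · show (_ + _) ^ (2 ^ klog n (i.val + 3)) = _
    rw [add_pow_char_pow (p := 2), h, zero_add, mul_pow, ← pow_mul]
  · exact Subsingleton.elim _ _

/-- Any monomial is in the span of the adapted ones. -/
theorem mem_span_all (hn : 2 ≤ n) (y : P n) :
    y ∈ Submodule.span (ZMod 2) (Set.range (b0 n) ∪ Set.range fun x => b0 n x * ε n) := by
  classical
  set V := Submodule.span (ZMod 2) (Set.range (b0 n) ∪ Set.range fun x => b0 n x * ε n)
  -- step 1: reduced powers
  have step : ∀ (k i : ℕ) (f : ∀ l, Fin (Nj n l)), i < 2 ^ klog n 2 →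
      a n ^ k * ε n ^ i * ∏ l, u n l ^ (f l).val ∈ V := by
    intro k i f hi
    have hN : 2 ^ klog n 2 = 2 * hh n := by
      rw [← pow_succ', show klog n 2 - 1 + 1 = klog n 2 from Nat.sub_add_cancel (klog_two_pos hn)]
    let T : ℕ → Set (P n) := fun i => {z | ∃ k j d, 2 * j + d ≤ i ∧ d ≤ 1 ∧ z = a n ^ k * e n ^ j * ε n ^ d}
    have hexp : ∀ i, ε n ^ i ∈ Submodule.span (ZMod 2) (T i) := by
      intro i
      induction i using Nat.strong_induction_on with
      | _ i ih =>
        match i, ih with
        | 0, _ => exact Submodule.subset_span ⟨0, 0, 0, le_rfl, Nat.zero_le _, by simp⟩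
        | 1, _ => exact Submodule.subset_span ⟨0, 0, 1, le_rfl, le_rfl, by simp⟩
        | i + 2, ih =>
          have e1 : ε n ^ (i + 2) = e n * ε n ^ i + a n * ε n ^ (i + 1) := by
            have h2 := two_eq_zero n
            linear_combination (-(a n * ε n ^ (i + 1))) * h2
          rw [e1]
          refine add_mem ?_ ?_
          · have : (Submodule.span (ZMod 2) (T i)).map (LinearMap.mulLeft (ZMod 2) (e n)) ≤
                Submodule.span (ZMod 2) (T (i + 2)) := by
              rw [Submodule.map_span, Submodule.span_le]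
              rintro _ ⟨_, ⟨k, j, d, hle, hd, rfl⟩, rfl⟩
              exact Submodule.subset_span ⟨k, j + 1, d, by omega, hd, by
                show e n * _ = _
                ring⟩
            exact this ⟨_, ih i (by omega), rfl⟩
          · have : (Submodule.span (ZMod 2) (T (i + 1))).map (LinearMap.mulLeft (ZMod 2) (a n)) ≤
                Submodule.span (ZMod 2) (T (i + 2)) := by
              rw [Submodule.map_span, Submodule.span_le]
              rintro _ ⟨_, ⟨k, j, d, hle, hd, rfl⟩, rfl⟩
              exact Submodule.subset_span ⟨k + 1, j, d, by omega, hd, by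
                show a n * _ = _
                ring⟩
            exact this ⟨_, ih (i + 1) (by omega), rfl⟩
    have hle : (Submodule.span (ZMod 2) (T i)).map
        (LinearMap.mulLeft (ZMod 2) (a n ^ k * ∏ l, u n l ^ (f l).val)) ≤ V := by
      rw [Submodule.map_span, Submodule.span_le]
      rintro _ ⟨_, ⟨k', j, d, hle, hd, rfl⟩, rfl⟩
      show a n ^ k * (∏ l, u n l ^ (f l).val) * (a n ^ k' * e n ^ j * ε n ^ d) ∈ V
      by_cases hk : n ≤ k + k'
      · rw [show a n ^ k * (∏ l, u n l ^ (f l).val) * (a n ^ k' * e n ^ j * ε n ^ d) =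
          a n ^ (k + k') * ((∏ l, u n l ^ (f l).val) * (e n ^ j * ε n ^ d)) by ring, a_pow hn hk, zero_mul]
        exact zero_mem _
      · have hj : j < hh n := by omega
        rw [show a n ^ k * (∏ l, u n l ^ (f l).val) * (a n ^ k' * e n ^ j * ε n ^ d) =
          b0 n (⟨k + k', by omega⟩, ⟨j, hj⟩, f) * ε n ^ d by simp only [b0]; ring]
        rcases Nat.le_one_iff_eq_zero_or_eq_one.1 hd with rfl | rfl
        · rw [pow_zero, mul_one]
          exact Submodule.subset_span (Or.inl ⟨_, rfl⟩)
        · rw [pow_one]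
          exact Submodule.subset_span (Or.inr ⟨_, rfl⟩)
    have := hle ⟨_, hexp i, rfl⟩
    rw [LinearMap.mulLeft_apply] at this
    rwa [show a n ^ k * ε n ^ i * ∏ l, u n l ^ (f l).val =
      a n ^ k * (∏ l, u n l ^ (f l).val) * ε n ^ i by ring]
  -- step 2: all powers
  have step2 : ∀ (m : ℕ) (k i : ℕ) (f : Fin (numVars n - 2) → ℕ), ∑ l, f l = m →
      a n ^ k * ε n ^ i * ∏ l, u n l ^ f l ∈ V := by
    intro m
    induction m using Nat.strong_induction_on with
    | _ m ih =>
      intro k i f hm
      by_cases hi : 2 ^ klog n 2 ≤ i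
      · rw [ε_pow hn hi, mul_zero, zero_mul]; exact zero_mem _
      by_cases hf : ∀ l, f l < Nj n l
      · exact step k i (fun l => ⟨f l, hf l⟩) (by omega)
      push Not at hf
      obtain ⟨l₀, hl₀⟩ := hf
      have hpos : 0 < Nj n l₀ := Nat.two_pow_pos _
      have hsum : ∑ l, Function.update f l₀ (f l₀ - Nj n l₀) l < m := by
        rw [← hm]
        refine Finset.sum_lt_sum (fun l _ => ?_) ⟨l₀, Finset.mem_univ _, by simp; omega⟩
        rcases eq_or_ne l l₀ with rfl | hl
        · simp
        · simp [hl]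
      have key : a n ^ k * ε n ^ i * ∏ l, u n l ^ f l =
          a n ^ (k + (2 * (l₀.val + 3) - 4) * Nj n l₀) * ε n ^ (i + Nj n l₀) *
            ∏ l, u n l ^ Function.update f l₀ (f l₀ - Nj n l₀) l := by
        rw [← Finset.mul_prod_erase _ _ (Finset.mem_univ l₀),
          ← Finset.mul_prod_erase _ (fun l => u n l ^ Function.update f l₀ (f l₀ - Nj n l₀) l) (Finset.mem_univ l₀)]
        have he : ∏ l ∈ Finset.univ.erase l₀, u n l ^ Function.update f l₀ (f l₀ - Nj n l₀) l =
            ∏ l ∈ Finset.univ.erase l₀, u n l ^ f l :=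
          Finset.prod_congr rfl fun l hl => by rw [Function.update_of_ne (Finset.ne_of_mem_erase hl)]
        rw [he, Function.update_self]
        conv_lhs => rw [show f l₀ = Nj n l₀ + (f l₀ - Nj n l₀) by omega, pow_add, u_pow]
        ring
      rw [key]
      exact ih _ hsum _ _ _ rfl
  -- step 3: the algebra is generated by `a, ε, u`
  let g : Option (Option (Fin (numVars n - 2))) → P n
    | none => a n
    | some none => ε n
    | some (some l) => u n l
  have hgen : ∀ z : P n, z ∈ Algebra.adjoin (ZMod 2) (Set.range g) := by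
    intro z
    obtain ⟨F, rfl⟩ := Ideal.Quotient.mk_surjective z
    induction F using MvPolynomial.induction_on with
    | C c =>
      rw [show (Ideal.Quotient.mk (truncIdeal n)) (C c) = algebraMap (ZMod 2) (P n) c from rfl]
      exact Subalgebra.algebraMap_mem _ c
    | add p q hp hq => rw [map_add]; exact add_mem hp hq
    | mul_X p i hp =>
      rw [map_mul]
      refine mul_mem hp ?_
      have he : Ideal.Quotient.mk (truncIdeal n) (X i) = eps n (i.val + 1) := by
        rw [eps, dif_pos ⟨by omega, by omega⟩]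
        congr 1
      rw [he]
      rcases i with ⟨iv, hiv⟩
      match iv, hiv with
      | 0, _ => exact Algebra.subset_adjoin ⟨none, rfl⟩
      | 1, _ => exact Algebra.subset_adjoin ⟨some none, rfl⟩
      | l + 2, hiv =>
        have hu : eps n (l + 3) = u n ⟨l, by omega⟩ + a n ^ (2 * (l + 3) - 4) * ε n := by
          have h2 := two_eq_zero n
          simp only [u]
          linear_combination (-(a n ^ (2 * (l + 3) - 4) * ε n)) * h2
        show eps n (l + 3) ∈ _
        rw [hu]
        exact add_mem (Algebra.subset_adjoin (Set.mem_range_self (f := g) (some (some (⟨l, by omega⟩ : Fin (numVars n - 2))))))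
          (mul_mem (pow_mem (Algebra.subset_adjoin (Set.mem_range_self (f := g) none)) _) (Algebra.subset_adjoin (Set.mem_range_self (f := g) (some none))))
  have h := hgen y
  rw [Algebra.adjoin_range_eq_range_aeval] at h
  obtain ⟨F, rfl⟩ := h
  show aeval g F ∈ V
  rw [F.as_sum, map_sum]
  refine Submodule.sum_mem _ fun d _ => ?_
  rw [aeval_monomial, ← Algebra.smul_def, Finsupp.prod_fintype _ _ (fun _ => pow_zero _),
    Fintype.prod_option, Fintype.prod_option]
  refine Submodule.smul_mem _ _ ?_
  rw [← mul_assoc]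
  exact step2 _ _ _ _ rfl

theorem linearIndependent_basis (hn : 2 ≤ n) :
    LinearIndependent (ZMod 2) (Sum.elim (b0 n) (fun x => b0 n x * ε n)) := by
  obtain ⟨hfin, hrank⟩ := finrank_P n
  refine linearIndependent_of_top_le_span_of_card_eq_finrank ?_ ?_
  · intro y _
    rw [Set.Sum.elim_range]
    exact mem_span_all hn y
  · rw [hrank, Fintype.card_sum, Fintype.card_prod, Fintype.card_prod, Fintype.card_pi, Fintype.card_pi]
    simp only [Fintype.card_fin]
    obtain ⟨s, hs⟩ : ∃ s, numVars n = s + 2 := ⟨_, (Nat.sub_add_cancel (numVars_two hn)).symm⟩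
    have key : ∀ (m m' : ℕ), m = m' + 2 → ∀ (F : ℕ → ℕ),
        ∏ i : Fin m, F i.val = F 0 * F 1 * ∏ i : Fin m', F (i.val + 2) := by
      rintro m m' rfl F
      rw [Fin.prod_univ_succ, Fin.prod_univ_succ, mul_assoc]
      rfl
    have hP := key (numVars n) (numVars n - 2) (by omega) fun i => if i = 0 then n else 2 ^ klog n (i + 1)
    simp only [bound]
    rw [hP, if_pos rfl, if_neg one_ne_zero, show (2 : ℕ) ^ klog n (1 + 1) = 2 * hh n by
      rw [← pow_succ', show klog n 2 - 1 + 1 = klog n 2 from Nat.sub_add_cancel (klog_two_pos hn)]]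
    have : (∏ i : Fin (numVars n - 2), if i.val + 2 = 0 then n else 2 ^ klog n (i.val + 2 + 1)) =
        ∏ i : Fin (numVars n - 2), Nj n i := Finset.prod_congr rfl fun i _ => by rw [if_neg (by omega)]
    rw [this]
    ring

/-- Decomposition of any element. -/
theorem exists_decomp (hn : 2 ≤ n) (y : P n) : ∃ p ∈ W0 n, ∃ q ∈ W0 n, y = p + q * ε n := by
  have h := mem_span_all hn y
  rw [Submodule.span_union] at h
  obtain ⟨p, hp, r, hr, rfl⟩ := Submodule.mem_sup.1 h
  have hrange : (Set.range fun x => b0 n x * ε n) =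
      (LinearMap.mulRight (ZMod 2) (ε n)) '' Set.range (b0 n) := by
    rw [← Set.range_comp]; rfl
  rw [hrange, ← Submodule.map_span] at hr
  obtain ⟨q, hq, rfl⟩ := hr
  exact ⟨p, hp, q, hq, rfl⟩

theorem decomp_eq_zero (hn : 2 ≤ n) {p q : P n} (hp : p ∈ W0 n) (hq : q ∈ W0 n)
    (h : p + q * ε n = 0) : p = 0 ∧ q = 0 := by
  have hli := linearIndependent_basis hn
  obtain ⟨c, rfl⟩ := (Submodule.mem_span_range_iff_exists_fun _).1 hp
  obtain ⟨d, rfl⟩ := (Submodule.mem_span_range_iff_exists_fun _).1 hq
  have h0 : ∑ x, Sum.elim c d x • Sum.elim (b0 n) (fun x => b0 n x * ε n) x = 0 := by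
    rw [Fintype.sum_sum_type]
    simp only [Sum.elim_inl, Sum.elim_inr]
    rw [Finset.sum_mul] at h
    simpa only [smul_mul_assoc] using h
  have hz := Fintype.linearIndependent_iff.1 hli _ h0
  exact ⟨Finset.sum_eq_zero fun x _ => by rw [show c x = 0 from hz (Sum.inl x), zero_smul],
    Finset.sum_eq_zero fun x _ => by rw [show d x = 0 from hz (Sum.inr x), zero_smul]⟩

theorem a_pow_mul_mem (hn : 2 ≤ n) {p : P n} (hp : p ∈ W0 n) (k : ℕ) : a n ^ k * p ∈ W0 n := by
  induction hp using Submodule.span_induction with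
  | mem x hx =>
    obtain ⟨⟨i, j, f⟩, rfl⟩ := hx
    by_cases h : n ≤ k + i.val
    · rw [b0, ← mul_assoc, ← mul_assoc, ← pow_add, a_pow hn h, zero_mul, zero_mul]
      exact zero_mem _
    · exact Submodule.subset_span ⟨(⟨k + i.val, by omega⟩, j, f), by simp only [b0]; ring⟩
  | zero => rw [mul_zero]; exact zero_mem _
  | add x y _ _ hx hy => rw [mul_add]; exact add_mem hx hy
  | smul c x _ hx => rw [mul_smul_comm]; exact Submodule.smul_mem _ _ hx

/-- The annihilator of `ε₁` inside the span. -/
theorem exists_of_a_mul_eq_zero (hn : 2 ≤ n) {p : P n} (hp : p ∈ W0 n) (h : a n * p = 0) :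
    ∃ r ∈ W0 n, p = a n ^ (n - 1) * r := by
  classical
  obtain ⟨c, rfl⟩ := (Submodule.mem_span_range_iff_exists_fun _).1 hp
  have hli : LinearIndependent (ZMod 2) (b0 n) := by
    have := (linearIndependent_basis hn).comp Sum.inl Sum.inl_injective
    simpa using this
  let s : Type := {x : Idx n // x.1.val + 1 < n}
  let sh : s → Idx n := fun x => (⟨x.1.1.val + 1, x.2⟩, x.1.2)
  have hsh : Function.Injective sh := by
    rintro ⟨⟨⟨i, hi⟩, r⟩, hx⟩ ⟨⟨⟨i', hi'⟩, r'⟩, hx'⟩ h
    simp only [sh, Prod.mk.injEq, Fin.mk.injEq] at h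
    obtain ⟨h1, rfl⟩ := h
    obtain rfl : i = i' := by omega
    rfl
  have hterm : ∀ x : Idx n, a n * b0 n x = if hx : x.1.val + 1 < n then b0 n (sh ⟨x, hx⟩) else 0 := by
    intro x
    split_ifs with hx
    · simp only [b0, sh]; ring
    · rw [b0, ← mul_assoc, ← mul_assoc, ← pow_succ', a_pow hn (by omega), zero_mul, zero_mul]
  have hzero : ∑ x : s, c x.1 • b0 n (sh x) = 0 := by
    rw [← h, Finset.mul_sum]
    simp only [mul_smul_comm, hterm]
    rw [← Fintype.sum_subtype_add_sum_subtype (fun x : Idx n => x.1.val + 1 < n)]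
    have h0 : ∑ x : {x : Idx n // ¬ x.1.val + 1 < n},
        c x.1 • (if hx : x.1.1.val + 1 < n then b0 n (sh ⟨x.1, hx⟩) else 0) = 0 :=
      Finset.sum_eq_zero fun x _ => by rw [dif_neg x.2, smul_zero]
    rw [h0, add_zero]
    exact Finset.sum_congr rfl fun x _ => by rw [dif_pos x.2]
  have hz := Fintype.linearIndependent_iff.1 (hli.comp sh hsh) (fun x : s => c x.1) hzero
  refine ⟨∑ x, c x • b0 n (⟨0, by omega⟩, x.2), Submodule.sum_mem _ fun x _ =>
    Submodule.smul_mem _ _ (Submodule.subset_span ⟨_, rfl⟩), ?_⟩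
  rw [Finset.mul_sum]
  refine Finset.sum_congr rfl fun x _ => ?_
  by_cases hx : x.1.val + 1 < n
  · rw [show c x = 0 from hz ⟨x, hx⟩, zero_smul, zero_smul, mul_zero]
  · rw [mul_smul_comm]
    congr 1
    simp only [b0, pow_zero, one_mul]
    rw [show x.1.val = n - 1 by omega]
    ring

end Groth.Agent.QsChow84
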