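import Mathlib

/-! A nontrivial idempotent of `A ⊗ L` gives a subfield of `L` inside `A`. -/

set_option autoImplicit false

universe u

open TensorProduct

namespace Groth.Agent.QsChow84

variable (k : Type u) [Field k] (A : Type u) [CommRing A] [Algebra k A] {L : Type u} [Field L] [Algebra k L]

/-- The Galois action on `A ⊗ L`. -/
noncomputable abbrev act (σ : L ≃ₐ[k] L) : A ⊗[k] L ≃ₐ[k] A ⊗[k] L :=
  Algebra.TensorProduct.congr AlgEquiv.refl σ

theorem act_tmul (σ : L ≃ₐ[k] L) (a : A) (l : L) : act k A σ (a ⊗ₜ l) = a ⊗ₜ σ l := rfl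

theorem act_act (σ τ : L ≃ₐ[k] L) (x : A ⊗[k] L) : act k A σ (act k A τ x) = act k A (σ * τ) x := by
  induction x using TensorProduct.induction_on with
  | zero => simp
  | tmul a l => rfl
  | add x y hx hy => rw [map_add, map_add, map_add, hx, hy]

theorem act_one (x : A ⊗[k] L) : act k A (1 : L ≃ₐ[k] L) x = x := by
  induction x using TensorProduct.induction_on with
  | zero => simp
  | tmul a l => rfl
  | add x y hx hy => rw [map_add, hx, hy]

theorem exists_of_act_fixed [FiniteDimensional k L] [IsGalois k L] {x : A ⊗[k] L}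
    (hx : ∀ σ, act k A σ x = x) : ∃ a : A, a ⊗ₜ (1 : L) = x := by
  obtain ⟨l₀, hl₀⟩ := Algebra.trace_surjective k L 1
  have key : ∀ y : A ⊗[k] L, ∃ a : A, a ⊗ₜ (1 : L) = ∑ σ : L ≃ₐ[k] L, act k A σ y := by
    intro y
    induction y using TensorProduct.induction_on with
    | zero => exact ⟨0, by simp⟩
    | tmul a l =>
      refine ⟨Algebra.trace k L l • a, ?_⟩
      simp only [act_tmul]
      rw [← tmul_sum, ← trace_eq_sum_automorphisms, Algebra.algebraMap_eq_smul_one, smul_tmul]
    | add x y hx hy =>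
      obtain ⟨a, ha⟩ := hx
      obtain ⟨b, hb⟩ := hy
      exact ⟨a + b, by rw [add_tmul, ha, hb, ← Finset.sum_add_distrib]; simp only [map_add]⟩
  obtain ⟨a, ha⟩ := key (x * (1 : A) ⊗ₜ l₀)
  refine ⟨a, ha.trans ?_⟩
  simp only [map_mul, hx, act_tmul]
  rw [← Finset.mul_sum, ← tmul_sum, ← trace_eq_sum_automorphisms, hl₀, map_one,
    ← Algebra.TensorProduct.one_def, mul_one]

theorem idem_cases_of_isUnit {R : Type*} [CommRing R] {e : R} (he : IsIdempotentElem e) (h : IsUnit e) :
    e = 1 :=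
  h.mul_eq_left.mp he.eq

theorem exists_intermediateField_hom [FiniteDimensional k L] [IsGalois k L]
    (hA : ∀ a : A, IsIdempotentElem a → a = 0 ∨ a = 1)
    {e : A ⊗[k] L} (he : IsIdempotentElem e) (h0 : e ≠ 0) (h1 : e ≠ 1) :
    ∃ F : IntermediateField k L, F ≠ ⊥ ∧
      ∃ φ : F →+* A, φ.comp (algebraMap k F) = algebraMap k A := by
  classical
  let G := L ≃ₐ[k] L
  have hinj : Function.Injective fun a : A => a ⊗ₜ[k] (1 : L) :=
    Algebra.TensorProduct.includeLeft_injective (S := k) (algebraMap k L).injective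
  -- invariant idempotents are trivial
  have htriv : ∀ x : A ⊗[k] L, (∀ σ, act k A σ x = x) → IsIdempotentElem x → x = 0 ∨ x = 1 := by
    intro x hx hxi
    obtain ⟨a, rfl⟩ := exists_of_act_fixed k A hx
    have : IsIdempotentElem a := hinj (by
      show (a * a) ⊗ₜ[k] (1 : L) = a ⊗ₜ 1
      conv_rhs => rw [← hxi.eq]
      rw [Algebra.TensorProduct.tmul_mul_tmul, mul_one])
    rcases hA a this with rfl | rfl
    · exact Or.inl (zero_tmul _ _)
    · exact Or.inr rfl
  -- an atom of the Boolean algebra generated by the conjugates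
  let at' : Finset G → A ⊗[k] L := fun S => (∏ i ∈ S, act k A i e) * ∏ i ∈ Sᶜ, (1 - act k A i e)
  have hsum : ∑ S, at' S = 1 := by
    rw [← Fintype.prod_add]
    simp
  have hidem : ∀ S, IsIdempotentElem (at' S) := fun S => by
    show _ * _ * (_ * _) = _ * _
    rw [mul_mul_mul_comm, ← Finset.prod_mul_distrib, ← Finset.prod_mul_distrib]
    congr 1 <;> refine Finset.prod_congr rfl fun i _ => ?_
    · rw [← map_mul, he.eq]
    · exact (he.map (act k A i)).one_sub.eq
  have horth : ∀ S T, S ≠ T → at' S * at' T = 0 := by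
    intro S T hne
    have key : ∀ S T : Finset G, ∀ i ∈ S, i ∉ T → at' S * at' T = 0 := by
      intro S T i hi hi'
      obtain ⟨c, hc⟩ : act k A i e ∣ at' S := (Finset.dvd_prod_of_mem _ hi).mul_right _
      obtain ⟨d, hd⟩ : 1 - act k A i e ∣ at' T :=
        (Finset.dvd_prod_of_mem (fun j => 1 - act k A j e) (Finset.mem_compl.2 hi')).mul_left _
      rw [hc, hd, mul_mul_mul_comm, (he.map (act k A i)).mul_one_sub_self, zero_mul]
    by_cases h : S ⊆ T
    · obtain ⟨i, hi, hi'⟩ := Finset.not_subset.1 (fun h' => hne (le_antisymm h h'))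
      rw [mul_comm]
      exact key T S i hi hi'
    · obtain ⟨i, hi, hi'⟩ := Finset.not_subset.1 h
      exact key S T i hi hi'
  have hact : ∀ τ S, act k A τ (at' S) = at' (S.image (τ * ·)) := by
    intro τ S
    simp only [at', map_mul, map_prod, map_sub, map_one, act_act]
    rw [Finset.prod_image (mul_right_injective τ).injOn]
    congr 1
    rw [show (S.image (τ * ·))ᶜ = Sᶜ.image (τ * ·) by
      ext x
      obtain ⟨y, rfl⟩ : ∃ y, τ * y = x := ⟨τ⁻¹ * x, by simp⟩
      simp,
      Finset.prod_image (mul_right_injective τ).injOn]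
  obtain ⟨S₀, hS₀⟩ : ∃ S, at' S ≠ 0 := by
    by_contra h
    push Not at h
    rw [Finset.sum_eq_zero (fun S _ => h S)] at hsum
    exact h0 (eq_zero_of_zero_eq_one hsum e)
  set f := at' S₀ with hf
  let H : Subgroup G :=
    { carrier := {τ | act k A τ f = f}
      one_mem' := act_one k A f
      mul_mem' := fun {a b} ha hb => by
        show act k A (a * b) f = f
        rw [← act_act, hb, ha]
      inv_mem' := fun {a} ha => by
        show act k A a⁻¹ f = f
        conv_lhs => rw [← ha, act_act, inv_mul_cancel, act_one] }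
  -- the orbit
  let O : Finset (A ⊗[k] L) := Finset.univ.image fun τ : G => act k A τ f
  have hO : ∀ y ∈ O, ∃ S, y = at' S := fun y hy => by
    obtain ⟨τ, -, rfl⟩ := Finset.mem_image.1 hy
    exact ⟨_, hact τ S₀⟩
  have horbit : ∀ y ∈ O, ∀ z ∈ O, y ≠ z → y * z = 0 := fun y hy z hz hne => by
    obtain ⟨S, rfl⟩ := hO y hy
    obtain ⟨T, rfl⟩ := hO z hz
    exact horth S T fun h => hne (congrArg at' h)
  have hfO : f ∈ O := Finset.mem_image.2 ⟨1, Finset.mem_univ _, act_one k A f⟩
  have hperm : ∀ σ : G, O.image (act k A σ) = O := by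
    intro σ
    simp only [O, Finset.image_image, Function.comp_def, act_act]
    conv_rhs => rw [← Finset.image_univ_of_surjective (Group.mulLeft_bijective σ).surjective,
      Finset.image_image]
    rfl
  have hsumO : ∀ σ : G, ∀ g : A ⊗[k] L → A ⊗[k] L, (∀ y ∈ O, act k A σ (g y) = g (act k A σ y)) →
      act k A σ (∑ y ∈ O, g y) = ∑ y ∈ O, g y := by
    intro σ g hg
    rw [map_sum, Finset.sum_congr rfl hg]
    conv_rhs => rw [← hperm σ, Finset.sum_image (act k A σ).injective.injOn]
  have hone : ∑ y ∈ O, y = 1 := by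
    have hmul : (∑ y ∈ O, y) * f = f := by
      rw [Finset.sum_mul, Finset.sum_eq_single f (fun y hy hne => horbit y hy f hfO hne)
        (fun h => absurd hfO h)]
      exact (hidem S₀).eq
    refine (htriv (∑ y ∈ O, y) (fun σ => hsumO σ id fun y _ => rfl) ?_).resolve_left fun h => hS₀ ?_
    · show _ * _ = _
      rw [Finset.mul_sum]
      refine Finset.sum_congr rfl fun y hy => ?_
      rw [Finset.sum_mul, Finset.sum_eq_single y (fun z hz hne => horbit z hz y hy hne)
        (fun h => absurd hy h)]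
      obtain ⟨S, rfl⟩ := hO y hy
      exact (hidem S).eq
    · rw [h, zero_mul] at hmul
      exact hmul.symm
  have hHtop : H ≠ ⊤ := by
    intro h
    have hfix : ∀ σ, act k A σ f = f := fun σ => (h ▸ Subgroup.mem_top σ : σ ∈ H)
    have hf1 : f = 1 := (htriv f hfix (hidem S₀)).resolve_left hS₀
    by_cases hmem : (1 : G) ∈ S₀
    · obtain ⟨c, hc⟩ : act k A (1 : G) e ∣ f := (Finset.dvd_prod_of_mem _ hmem).mul_right _
      rw [act_one, hf1] at hc
      exact h1 (idem_cases_of_isUnit he (IsUnit.of_mul_eq_one _ hc.symm))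
    · obtain ⟨c, hc⟩ : 1 - act k A (1 : G) e ∣ f :=
        (Finset.dvd_prod_of_mem (fun j => 1 - act k A j e) (Finset.mem_compl.2 hmem)).mul_left _
      rw [act_one, hf1] at hc
      exact h0 (by simpa using idem_cases_of_isUnit he.one_sub (IsUnit.of_mul_eq_one _ hc.symm))
  let F := IntermediateField.fixedField H
  -- the defining relation
  have huniq : ∀ a b : A, a ⊗ₜ[k] (1 : L) * f = b ⊗ₜ 1 * f → a = b := by
    intro a b hab
    refine hinj ?_
    show a ⊗ₜ[k] (1 : L) = b ⊗ₜ 1
    rw [← mul_one (a ⊗ₜ[k] (1 : L)), ← mul_one (b ⊗ₜ[k] (1 : L)), ← hone, Finset.mul_sum, Finset.mul_sum]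
    refine Finset.sum_congr rfl fun y hy => ?_
    obtain ⟨τ, -, rfl⟩ := Finset.mem_image.1 hy
    simpa [act_tmul] using congrArg (act k A τ) hab
  have hex : ∀ x : F, ∃ a : A, a ⊗ₜ[k] (1 : L) * f = (1 : A) ⊗ₜ (x : L) * f := by
    intro x
    choose c hc using fun (y : A ⊗[k] L) (hy : y ∈ O) => Finset.mem_image.1 hy
    let g : A ⊗[k] L → A ⊗[k] L := fun y =>
      if hy : y ∈ O then act k A (c y hy) ((1 : A) ⊗ₜ (x : L) * f) else 0
    have hwd : ∀ τ τ' : G, act k A τ f = act k A τ' f →
        act k A τ ((1 : A) ⊗ₜ (x : L) * f) = act k A τ' ((1 : A) ⊗ₜ (x : L) * f) := by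
      intro τ τ' h
      have hmem : τ⁻¹ * τ' ∈ H := by
        show act k A (τ⁻¹ * τ') f = f
        rw [← act_act, ← h, act_act, inv_mul_cancel, act_one]
      have hx : (τ⁻¹ * τ') (x : L) = x := x.2 ⟨_, hmem⟩
      rw [map_mul (act k A τ) ((1 : A) ⊗ₜ (x : L)) f, map_mul (act k A τ') ((1 : A) ⊗ₜ (x : L)) f, h,
        act_tmul, act_tmul]
      congr 2
      conv_lhs => rw [← hx, ← AlgEquiv.mul_apply, mul_inv_cancel_left]
    have hg : ∀ τ : G, g (act k A τ f) = act k A τ ((1 : A) ⊗ₜ (x : L) * f) := by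
      intro τ
      have hy : act k A τ f ∈ O := Finset.mem_image.2 ⟨τ, Finset.mem_univ _, rfl⟩
      simp only [g, dif_pos hy]
      exact hwd _ _ (hc _ hy).2
    obtain ⟨a, ha⟩ := exists_of_act_fixed k A (x := ∑ y ∈ O, g y) (fun σ => hsumO σ g fun y hy => by
      obtain ⟨τ, -, rfl⟩ := Finset.mem_image.1 hy
      rw [hg, act_act, act_act, hg])
    refine ⟨a, ?_⟩
    rw [ha, Finset.sum_mul, Finset.sum_eq_single f ?_ (fun h => absurd hfO h)]
    · conv_lhs => rw [show g f = g (act k A 1 f) by rw [act_one], hg, act_one, mul_assoc, (hidem S₀).eq]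
    · intro y hy hne
      obtain ⟨τ, -, rfl⟩ := Finset.mem_image.1 hy
      rw [hg, map_mul, mul_assoc, horbit _ hy f hfO hne, mul_zero]
  choose φ hφ using hex
  refine ⟨F, fun hF => hHtop ?_, { toFun := φ, map_one' := ?_, map_mul' := ?_, map_zero' := ?_, map_add' := ?_ }, ?_⟩
  · rw [← IntermediateField.fixingSubgroup_fixedField H]
    show IntermediateField.fixingSubgroup F = ⊤
    rw [hF, IntermediateField.fixingSubgroup_bot]
  · exact huniq _ _ ((hφ 1).trans (by simp))
  · intro x y
    refine huniq _ _ ((hφ (x * y)).trans ?_)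
    have h := congrArg₂ (· * ·) (hφ x) (hφ y)
    rw [mul_mul_mul_comm, mul_mul_mul_comm _ f, Algebra.TensorProduct.tmul_mul_tmul,
      Algebra.TensorProduct.tmul_mul_tmul, mul_one, mul_one, (hidem S₀).eq] at h
    exact h.symm
  · exact huniq _ _ ((hφ 0).trans (by simp))
  · intro x y
    refine huniq _ _ ((hφ (x + y)).trans ?_)
    rw [add_tmul, add_mul, hφ, hφ, ← add_mul, ← tmul_add]
    rfl
  · ext c
    refine huniq _ _ ((hφ _).trans ?_)
    show (1 : A) ⊗ₜ[k] (algebraMap k L c) * f = algebraMap k A c ⊗ₜ 1 * f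
    rw [Algebra.algebraMap_eq_smul_one, Algebra.algebraMap_eq_smul_one, smul_tmul]

end Groth.Agent.QsChow84
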