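import Groth.Prelude.Def_W4c4chowquasisplitNorm
import Groth.Agent.CycLib.MapLib
import Mathlib

/-! Schemes defined over a finite intermediate field have trivial conormed Chow groups. -/

set_option autoImplicit false

universe u

open CategoryTheory CategoryTheory.Limits AlgebraicGeometry

namespace Groth.Agent.QsChow84

theorem residueFieldMap_surjective_of_closedImmersion {Y X : Scheme.{u}} (i : Y ⟶ X) [IsClosedImmersion i] (y : Y) :
    Function.Surjective (i.residueFieldMap y).hom := fun z => by
  obtain ⟨r, rfl⟩ := Y.residue_surjective y z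
  obtain ⟨r', rfl⟩ := i.stalkMap_surjective y r
  exact ⟨X.residue (i y) r', congr($(Scheme.residue_residueFieldMap i y) r')⟩

theorem normSubgroup_eq_top_of_factor (k : Type u) [Field k] (K : Type u) [Field K] [Algebra k K]
    (F : IntermediateField k K) [FiniteDimensional k F] (hF : F ≠ ⊥)
    (X : Scheme.{u}) [X.Over (Spec (CommRingCat.of k))] (g : X ⟶ Spec (CommRingCat.of F))
    (hg : g ≫ Spec.map (CommRingCat.ofHom (algebraMap k F)) = X ↘ Spec (CommRingCat.of k))
    (δ : X → ℤ) (j : ℤ) :
    QsChow.normSubgroup k K X δ j = ⊤ := by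
  classical
  set π := Curv2.bcFst k X F with hπ
  let s : X ⟶ Curv2.bc k X F := pullback.lift (𝟙 X) g (by rw [Category.id_comp, hg])
  have hs : s ≫ π = 𝟙 X := pullback.lift_fst _ _ _
  haveI : IsSeparated π := inferInstanceAs (IsSeparated (pullback.fst _ _))
  haveI : IsClosedImmersion (s ≫ π) := by rw [hs]; infer_instance
  haveI : IsClosedImmersion s := IsClosedImmersion.of_comp s π
  have hinj : ∀ x, π (s x) = x := fun x => by rw [← Scheme.Hom.comp_apply, hs]; rfl
  rw [eq_top_iff]
  intro c _
  obtain ⟨⟨a, ha⟩, rfl⟩ := QuotientAddGroup.mk_surjective c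
  let δ' : Curv2.bc k X F → ℤ := δ ∘ ⇑π.base
  set α := AlgebraicCycle.map s δ δ' a with hα
  have hdeg : ∀ x, s.residueDegree x = 1 := fun x =>
    CycLib.residueDegree_eq_one s x (residueFieldMap_surjective_of_closedImmersion s x)
  have hco : ∀ x, AlgebraicCycle.mapCoeff s δ δ' x = 1 := fun x => by
    rw [AlgebraicCycle.mapCoeff, if_pos (show δ x = δ' (s x) from (congrArg δ (hinj x)).symm), hdeg]
  have hαs : ∀ x, α (s x) = a x := by
    intro x
    rw [hα, CycLib.map_apply_eq_sum s δ δ' a (s x) {x} fun x' hx' _ =>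
      Finset.mem_singleton.2 (s.isClosedEmbedding.injective hx'), Finset.filter_singleton, if_pos rfl,
      Finset.sum_singleton, hco, Nat.cast_one, mul_one]
  have hα0 : ∀ y, y ∉ Set.range s → α y = 0 := by
    intro y hy
    rw [hα, CycLib.map_apply_eq_sum s δ δ' a y ∅ fun x hx _ => absurd ⟨x, hx⟩ hy]
    simp
  have hmap : AlgebraicCycle.map π δ' δ α = a := by
    ext x
    rw [CycLib.map_apply_eq_sum π δ' δ α x {s x} ?_, Finset.filter_singleton, if_pos (hinj x),
      Finset.sum_singleton, hαs, AlgebraicCycle.mapCoeff, if_pos (show δ' (s x) = δ (π.base (s x)) from rfl)]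
    · have h1 := CycLib.residueDegree_comp s π x
      rw [hdeg, one_mul] at h1
      rw [← h1]
      simp only [hs]
      rw [Scheme.Hom.residueDegree_id, Nat.cast_one, mul_one]
    · intro y hy hne
      by_cases hr : y ∈ Set.range s
      · obtain ⟨x', rfl⟩ := hr
        rw [hinj] at hy
        rw [hy]; exact Finset.mem_singleton_self _
      · exact absurd (hα0 y hr) hne
  refine AddSubgroup.subset_closure ⟨F, inferInstance, hF, α, ?_, (show _ ∈ _ from hmap.symm ▸ ha), ?_⟩
  · intro y hy
    by_cases hr : y ∈ Set.range s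
    · obtain ⟨x, rfl⟩ := hr
      rw [hαs]
      exact ha x fun h => hy ((congrArg δ (hinj x)).trans h)
    · exact hα0 y hr
  · exact congrArg _ (Subtype.ext hmap.symm)

end Groth.Agent.QsChow84
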