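import Groth.Agent.QsChow84.Basis

/-! The involution and the presentation map in terms of the adapted basis. -/

set_option autoImplicit false

open MvPolynomial QsChow

namespace Groth.Agent.QsChow84

theorem sq_sum_of_two {R : Type*} [CommRing R] (h2 : (2 : R) = 0) {ι : Type*} (s : Finset ι) (f : ι → R) :
    (∑ t ∈ s, f t) ^ 2 = ∑ t ∈ s, f t ^ 2 := by
  classical
  induction s using Finset.induction_on with
  | empty => simp
  | insert i s hi ih =>
    rw [Finset.sum_insert hi, Finset.sum_insert hi, ← ih]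
    linear_combination (f i * ∑ t ∈ s, f t) * h2

/-- Two-power powers of a root of `X² + aX + e`. -/
theorem two_pow_expand {R : Type*} [CommRing R] (h2 : (2 : R) = 0) (a ε e : R)
    (he : ε ^ 2 = e + a * ε) (k : ℕ) :
    ε ^ 2 ^ k = (∑ t ∈ Finset.range k, a ^ (2 ^ k - 2 ^ (t + 1)) * e ^ 2 ^ t) + a ^ (2 ^ k - 1) * ε := by
  induction k with
  | zero => simp
  | succ k ih =>
    rw [pow_succ, pow_mul, ih]
    have hsq : ((∑ t ∈ Finset.range k, a ^ (2 ^ k - 2 ^ (t + 1)) * e ^ 2 ^ t) + a ^ (2 ^ k - 1) * ε) ^ 2 =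
        (∑ t ∈ Finset.range k, a ^ (2 ^ k - 2 ^ (t + 1)) * e ^ 2 ^ t) ^ 2 + (a ^ (2 ^ k - 1) * ε) ^ 2 := by
      linear_combination ((∑ t ∈ Finset.range k, a ^ (2 ^ k - 2 ^ (t + 1)) * e ^ 2 ^ t) * (a ^ (2 ^ k - 1) * ε)) * h2
    rw [hsq, sq_sum_of_two h2, Finset.sum_range_succ', mul_pow _ ε, he]
    have hsum : ∀ t, (a ^ (2 ^ k - 2 ^ (t + 1)) * e ^ 2 ^ t) ^ 2 =
        a ^ (2 ^ k * 2 - 2 ^ (t + 1 + 1)) * e ^ 2 ^ (t + 1) := fun t => by
      simp only [mul_pow, ← pow_mul, Nat.sub_mul, ← pow_succ]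
    have hk : 1 ≤ 2 ^ k := Nat.one_le_two_pow
    rw [Finset.sum_congr rfl fun t _ => hsum t, ← pow_mul, pow_zero, pow_one,
      show (2 ^ k - 1) * 2 = 2 ^ k * 2 - 2 ^ (0 + 1) by rw [Nat.sub_mul]; norm_num,
      show 2 ^ k * 2 - 1 = (2 ^ k * 2 - 2 ^ (0 + 1)) + 1 by norm_num; omega, pow_succ]
    ring_nf

variable {n : ℕ}

theorem phi_e1 (hn : 2 ≤ n) : phi n (evar n 1) = a n := by
  have := numVars_two hn
  rw [phi, evar, dif_pos ⟨by omega, by omega⟩, aeval_X]
  rfl

theorem phi_e2 (hn : 2 ≤ n) : phi n (evar n 2) = e n := by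
  have := numVars_two hn
  rw [phi, evar, dif_pos ⟨by omega, by omega⟩, aeval_X]
  rfl

theorem phi_ej (l : Fin (numVars n - 2)) : phi n (evar n (l.val + 3)) = u n l := by
  rw [phi, evar, dif_pos ⟨by omega, by omega⟩, aeval_X]
  simp only [genImage]
  rw [if_neg (by omega), if_neg (by omega)]
  rfl

theorem phi_x : phi n (xvar n) = a n ^ (n - 1) * ε n := by
  rw [phi, xvar, aeval_X]; rfl

theorem W0_le_range (hn : 2 ≤ n) {p : P n} (hp : p ∈ W0 n) : p ∈ (phi n).range := by
  induction hp using Submodule.span_induction with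
  | mem x hx =>
    obtain ⟨⟨i, j, f⟩, rfl⟩ := hx
    exact ⟨evar n 1 ^ i.val * evar n 2 ^ j.val * ∏ l, evar n (l.val + 3) ^ (f l).val, by
      show phi n _ = _
      simp only [map_mul, map_pow, map_prod, phi_e1 hn, phi_e2 hn, phi_ej]
      rfl⟩
  | zero => exact zero_mem _
  | add x y _ _ hx hy => exact add_mem hx hy
  | smul c x _ hx => exact Subalgebra.smul_mem _ hx c

theorem phi_sPoly (hn : 2 ≤ n) (j : ℕ) :
    phi n (sPoly n j) = ε n ^ 2 ^ klog n j + a n ^ (2 ^ klog n j - 1) * ε n := by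
  have h2 := two_eq_zero n
  have h := two_pow_expand h2 (a n) (ε n) (e n)
    (by linear_combination (-(a n * ε n)) * h2) (klog n j)
  simp only [sPoly, map_sum, map_mul, map_pow, phi_e1 hn, phi_e2 hn]
  linear_combination -h - (a n ^ (2 ^ klog n j - 1) * ε n) * h2

theorem presIdeal_le_ker (hn : 2 ≤ n) : presIdeal n ≤ RingHom.ker (phi n) := by
  have h2 := two_eq_zero n
  rw [presIdeal, Ideal.span_le]
  rintro q ((rfl | rfl | rfl) | ⟨i, rfl⟩) <;> rw [SetLike.mem_coe, RingHom.mem_ker]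
  · rw [map_pow, phi_e1 hn, a_pow hn le_rfl]
  · rw [map_mul, phi_e1 hn, phi_x, ← mul_assoc, ← pow_succ', a_pow hn (by omega), zero_mul]
  · rw [map_pow, phi_x, mul_pow, ← pow_mul, a_pow hn (by omega), zero_mul]
  · obtain ⟨iv, hiv⟩ := i
    match iv, hiv with
    | 0, _ => simp [hrel]
    | 1, _ =>
      have hN := le_two_pow_klog hn (le_refl 2)
      norm_num at hN
      simp only [hrel, if_pos, map_add, map_mul, map_pow, phi_e1 hn, phi_x, phi_sPoly hn]
      rw [ε_pow hn le_rfl, zero_add, ← mul_assoc, ← pow_add,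
        show 2 ^ klog n 2 - n + (n - 1) = 2 ^ klog n 2 - 1 by omega]
      linear_combination (a n ^ (2 ^ klog n 2 - 1) * ε n) * h2
    | l + 2, hiv =>
      have hN := le_two_pow_klog hn (show 2 ≤ l + 3 by omega)
      have hu := u_pow (n := n) ⟨l, by omega⟩
      simp only [hrel]
      rw [if_neg (by omega), if_pos ⟨by omega, by omega⟩]
      have hphi := phi_ej (n := n) ⟨l, by omega⟩
      simp only [map_add, map_mul, map_pow, phi_e1 hn, phi_x, phi_sPoly hn] at hphi ⊢
      rw [hphi, hu, ← mul_assoc, ← pow_add]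
      simp only [Nj] at *
      have hM : (2 * (l + 3) - 3) * 2 ^ klog n (l + 3) =
          (2 * (l + 3) - 4) * 2 ^ klog n (l + 3) + 2 ^ klog n (l + 3) := by
        rw [show 2 * (l + 3) - 3 = 2 * (l + 3) - 4 + 1 by omega, add_one_mul]
      have h1 : 1 ≤ 2 ^ klog n (l + 3) := Nat.one_le_two_pow
      rw [show (2 * (l + 2 + 1) - 3) * 2 ^ klog n (l + 2 + 1) - n + (n - 1) =
        (2 * (l + 3) - 4) * 2 ^ klog n (l + 3) + (2 ^ klog n (l + 3) - 1) by
          show (2 * (l + 3) - 3) * 2 ^ klog n (l + 3) - n + (n - 1) = _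
          omega, pow_add]
      linear_combination (a n ^ ((2 * (l + 3) - 4) * 2 ^ klog n (l + 3)) * ε n ^ 2 ^ klog n (l + 3) +
        a n ^ ((2 * (l + 3) - 4) * 2 ^ klog n (l + 3)) * a n ^ (2 ^ klog n (l + 3) - 1) * ε n) * h2

section tau

variable (τ : P n →ₐ[ZMod 2] P n)

/-- `τ` is the prescribed involution. -/
structure IsTau : Prop where
  map_one' : τ (eps n 1) = eps n 1
  map_eps : ∀ j : ℕ, 2 ≤ j → j ≤ numVars n → τ (eps n j) = eps n j + eps n 1 ^ (2 * j - 3)

variable {τ}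

theorem IsTau.map_ε (h : IsTau τ) (hn : 2 ≤ n) : τ (ε n) = ε n + a n := by
  rw [h.map_eps 2 le_rfl (numVars_two hn), pow_one]

theorem IsTau.fix_W0 (h : IsTau τ) (hn : 2 ≤ n) {p : P n} (hp : p ∈ W0 n) : τ p = p := by
  have h2 := two_eq_zero n
  induction hp using Submodule.span_induction with
  | mem x hx =>
    obtain ⟨⟨i, j, f⟩, rfl⟩ := hx
    have he : τ (e n) = e n := by
      rw [map_add, map_pow, map_mul, h.map_ε hn, h.map_one']
      linear_combination (a n * ε n + a n ^ 2) * h2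
    have hu : ∀ l, τ (u n l) = u n l := fun l => by
      simp only [u, map_add, map_mul, map_pow, h.map_ε hn, h.map_one',
        h.map_eps (l.val + 3) (by omega) (by omega)]
      rw [show 2 * (l.val + 3) - 3 = 2 * (l.val + 3) - 4 + 1 by omega, pow_succ]
      linear_combination (a n ^ (2 * (l.val + 3) - 4) * a n) * h2
    simp only [b0, map_mul, map_pow, map_prod, h.map_one', he, hu]
  | zero => rw [map_zero]
  | add x y _ _ hx hy => rw [map_add, hx, hy]
  | smul c x _ hx => rw [map_smul, hx]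

theorem IsTau.apply_decomp (h : IsTau τ) (hn : 2 ≤ n) {p q : P n} (hp : p ∈ W0 n) (hq : q ∈ W0 n) :
    (p + q * ε n) + τ (p + q * ε n) = a n * q := by
  rw [map_add, map_mul, h.fix_W0 hn hp, h.fix_W0 hn hq, h.map_ε hn]
  linear_combination (p + q * ε n) * two_eq_zero n

theorem IsTau.fixed_iff (h : IsTau τ) (hn : 2 ≤ n) {z : P n} :
    τ z = z ↔ ∃ p ∈ W0 n, ∃ r ∈ W0 n, z = p + a n ^ (n - 1) * r * ε n := by
  obtain ⟨p, hp, q, hq, rfl⟩ := exists_decomp hn z
  have hs := h.apply_decomp hn hp hq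
  constructor
  · intro hz
    rw [hz, add_self'] at hs
    obtain ⟨r, hr, rfl⟩ := exists_of_a_mul_eq_zero hn hq hs.symm
    exact ⟨p, hp, r, hr, rfl⟩
  · rintro ⟨p', hp', r, hr, he⟩
    rw [he, map_add, map_mul, map_mul, map_pow, h.fix_W0 hn hp', h.fix_W0 hn hr, h.map_ε hn, h.map_one']
    have ha : a n ^ (n - 1) * a n = 0 := by rw [← pow_succ, a_pow hn (by omega)]
    linear_combination r * ha

theorem IsTau.range_eq (h : IsTau τ) (hn : 2 ≤ n) :
    Set.range (fun y : P n => y + τ y) = (fun z : P n => eps n 1 * z) '' {z | τ z = z} := by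
  ext w
  constructor
  · rintro ⟨y, rfl⟩
    obtain ⟨p, hp, q, hq, rfl⟩ := exists_decomp hn y
    exact ⟨q, h.fix_W0 hn hq, (h.apply_decomp hn hp hq).symm⟩
  · rintro ⟨z, hz, rfl⟩
    obtain ⟨p, hp, r, hr, rfl⟩ := (h.fixed_iff hn).1 hz
    refine ⟨0 + p * ε n, ?_⟩
    show _ + _ = _
    rw [h.apply_decomp hn (zero_mem _) hp]
    have ha : a n * a n ^ (n - 1) = 0 := by rw [← pow_succ', a_pow hn (by omega)]
    show _ = a n * _
    linear_combination (-(r * ε n)) * ha

theorem IsTau.exists_pow_mul (h : IsTau τ) (hn : 2 ≤ n) (m : ℕ) {y : P n}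
    (hy : y + τ y ∈ Ideal.span ({eps n 1 ^ m} : Set (P n))) :
    ∃ z : P n, τ z = z ∧ y + τ y = eps n 1 ^ m * z := by
  obtain ⟨p, hp, q, hq, rfl⟩ := exists_decomp hn y
  rw [h.apply_decomp hn hp hq] at hy ⊢
  obtain ⟨w, hw⟩ := Ideal.mem_span_singleton'.1 hy
  obtain ⟨p', hp', q', hq', rfl⟩ := exists_decomp hn w
  refine ⟨p', h.fix_W0 hn hp', ?_⟩
  have hz := decomp_eq_zero hn (p := a n * q - a n ^ m * p') (q := -(a n ^ m * q'))
    (sub_mem (by simpa using a_pow_mul_mem hn hq 1) (a_pow_mul_mem hn hp' m))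
    (neg_mem (a_pow_mul_mem hn hq' m)) (by linear_combination -hw)
  exact sub_eq_zero.1 hz.1

theorem IsTau.phi_range (h : IsTau τ) (hn : 2 ≤ n) :
    (phi n).range = AlgHom.equalizer τ (AlgHom.id (ZMod 2) (P n)) := by
  apply le_antisymm
  · rintro _ ⟨q, rfl⟩
    show τ (phi n q) = phi n q
    have : τ.comp (phi n) = phi n := by
      refine MvPolynomial.algHom_ext fun i => ?_
      show τ (phi n (X i)) = phi n (X i)
      match i with
      | none =>
        change τ (phi n (xvar n)) = phi n (xvar n)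
        rw [phi_x, map_mul, map_pow, h.map_one', h.map_ε hn]
        have ha : a n ^ (n - 1) * a n = 0 := by rw [← pow_succ, a_pow hn (by omega)]
        linear_combination ha
      | some ⟨iv, hiv⟩ =>
        have hX : (X (some ⟨iv, hiv⟩) : FreeE n) = evar n (iv + 1) := by
          rw [evar, dif_pos ⟨by omega, by omega⟩]; rfl
        rw [hX]
        have hfix : phi n (evar n (iv + 1)) ∈ W0 n ∨ phi n (evar n (iv + 1)) = e n ∨
            (∃ l, phi n (evar n (iv + 1)) = u n l) ∨ phi n (evar n (iv + 1)) = a n := by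
          match iv, hiv with
          | 0, _ => exact Or.inr (Or.inr (Or.inr (phi_e1 hn)))
          | 1, _ => exact Or.inr (Or.inl (phi_e2 hn))
          | l + 2, hiv =>
            refine Or.inr (Or.inr (Or.inl ⟨⟨l, by omega⟩, ?_⟩))
            rw [show l + 2 + 1 = l + 3 from rfl]
            exact phi_ej (n := n) ⟨l, by omega⟩
        rcases hfix with hw | hw | ⟨l, hw⟩ | hw
        · exact h.fix_W0 hn hw
        · rw [hw, map_add, map_pow, map_mul, h.map_ε hn, h.map_one']
          linear_combination (a n * ε n + a n ^ 2) * two_eq_zero n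
        · rw [hw]
          simp only [u, map_add, map_mul, map_pow, h.map_ε hn, h.map_one',
            h.map_eps (l.val + 3) (by omega) (by omega)]
          rw [show 2 * (l.val + 3) - 3 = 2 * (l.val + 3) - 4 + 1 by omega, pow_succ]
          linear_combination (a n ^ (2 * (l.val + 3) - 4) * a n) * two_eq_zero n
        · rw [hw]; exact h.map_one'
    exact DFunLike.congr_fun this q
  · intro z hz
    obtain ⟨p, hp, r, hr, rfl⟩ := (h.fixed_iff hn).1 hz
    refine add_mem (W0_le_range hn hp) ?_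
    rw [show a n ^ (n - 1) * r * ε n = r * (a n ^ (n - 1) * ε n) by ring, ← phi_x]
    exact mul_mem (W0_le_range hn hr) ⟨_, rfl⟩

end tau

end Groth.Agent.QsChow84
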