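import Groth.Prelude.Def_CurvBase
import Groth.Agent.QsChow84.Descent
import Groth.Agent.S4495
import Mathlib

/-! A connected scheme with disconnected base change is defined over a subfield. -/

set_option autoImplicit false

universe u

open CategoryTheory CategoryTheory.Limits AlgebraicGeometry

namespace Groth.Agent.QsChow84

variable (k : Type u) [Field k] (X : Scheme.{u}) [X.Over (Spec (CommRingCat.of k))]

/-- The structure map on global sections. -/
noncomputable abbrev gammaMap : CommRingCat.of k ⟶ Γ(X, ⊤) :=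
  (Scheme.ΓSpecIso (CommRingCat.of k)).inv ≫ (X ↘ Spec (CommRingCat.of k)).appTop

/-- The algebra of global sections. -/
noncomputable abbrev gammaAlg : Algebra k Γ(X, ⊤) := (gammaMap k X).hom.toAlgebra

theorem exists_factor_of_hom {F : Type u} [Field F] [Algebra k F] (φ : F →+* Γ(X, ⊤))
    (hφ : φ.comp (algebraMap k F) = (gammaMap k X).hom) :
    ∃ g : X ⟶ Spec (CommRingCat.of F),
      g ≫ Spec.map (CommRingCat.ofHom (algebraMap k F)) = X ↘ Spec (CommRingCat.of k) := by
  refine ⟨X.toSpecΓ ≫ Spec.map (CommRingCat.ofHom φ), ?_⟩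
  rw [Category.assoc, ← Spec.map_comp, ← CommRingCat.ofHom_comp, hφ, CommRingCat.ofHom_hom,
    Spec.map_comp, ← Category.assoc, ← Scheme.toSpecΓ_naturality, Category.assoc,
    toSpecΓ_SpecMap_ΓSpecIso_inv, Category.comp_id]

theorem exists_tensor_iso [QuasiCompact (X ↘ Spec (CommRingCat.of k))]
    [QuasiSeparated (X ↘ Spec (CommRingCat.of k))] (L : Type u) [Field L] [Algebra k L] :
    letI := gammaAlg k X
    Nonempty (Γ(Curv2.bc k X L, ⊤) ≅ CommRingCat.of (TensorProduct k Γ(X, ⊤) L)) := by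
  letI := gammaAlg k X
  set f := Spec.map (CommRingCat.ofHom (algebraMap k L))
  haveI : Flat f := by
    rw [HasRingHomProperty.Spec_iff (P := @Flat)]
    exact RingHom.flat_algebraMap_iff.2 inferInstance
  haveI : CompactSpace X := QuasiCompact.compactSpace_of_compactSpace (X ↘ Spec (CommRingCat.of k))
  haveI : QuasiSeparatedSpace X := AlgebraicGeometry.quasiSeparatedSpace_of_quasiSeparated (X ↘ Spec (CommRingCat.of k))
  have H : IsPullback (Curv2.bcFst k X L) (Curv2.bcSnd k X L) (X ↘ Spec (CommRingCat.of k)) f :=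
    IsPullback.of_hasPullback _ _
  have h1 := (isIso_pushoutSection_iff H (US := ⊤) (UT := ⊤) (UX := ⊤) (UY := ⊤) le_top le_top (by simp)).1
    (isIso_pushoutSection_of_isQuasiSeparated_of_flat_right H _ _ _ (isAffineOpen_top _) (isAffineOpen_top _)
      (by simpa using isCompact_univ) (by simpa using isQuasiSeparated_univ_iff.2 inferInstance))
  have key : ∀ {A B : Scheme.{u}} (f : A ⟶ B) (e : ⊤ ≤ f ⁻¹ᵁ ⊤), f.appLE ⊤ ⊤ e = f.appTop :=
    fun f e => Scheme.Hom.appLE_eq_app f
  have h1 : IsPushout (X ↘ Spec (CommRingCat.of k)).appTop f.appTop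
      (Curv2.bcFst k X L).appTop (Curv2.bcSnd k X L).appTop := by
    convert h1 using 1 <;> exact (key _ _).symm
  have h2 : IsPushout (CommRingCat.ofHom (algebraMap k Γ(X, ⊤))) (CommRingCat.ofHom (algebraMap k L))
      (Curv2.bcFst k X L).appTop ((Scheme.ΓSpecIso (CommRingCat.of L)).inv ≫ (Curv2.bcSnd k X L).appTop) := by
    refine IsPushout.of_iso h1 (Scheme.ΓSpecIso (CommRingCat.of k)) (Iso.refl _) (Scheme.ΓSpecIso (CommRingCat.of L))
      (Iso.refl _) ?_ ?_ ?_ ?_
    · rw [Iso.refl_hom, Category.comp_id]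
      simp [gammaMap, RingHom.algebraMap_toAlgebra]
    · exact Scheme.ΓSpecIso_naturality (CommRingCat.ofHom (algebraMap k L))
    · simp
    · simp
  exact ⟨h2.isoIsPushout _ _ (CommRingCat.isPushout_tensorProduct k Γ(X, ⊤) L)⟩

theorem exists_factor_of_disconnected [ConnectedSpace X] [QuasiCompact (X ↘ Spec (CommRingCat.of k))]
    [QuasiSeparated (X ↘ Spec (CommRingCat.of k))] (L : Type u) [Field L] [Algebra k L]
    [FiniteDimensional k L] [IsGalois k L] (hdisc : ¬ ConnectedSpace ↥(Curv2.bc k X L)) :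
    ∃ F : IntermediateField k L, F ≠ ⊥ ∧
      ∃ g : X ⟶ Spec (CommRingCat.of F),
        g ≫ Spec.map (CommRingCat.ofHom (algebraMap k F)) = X ↘ Spec (CommRingCat.of k) := by
  letI := gammaAlg k X
  have hA : ∀ a : Γ(X, ⊤), IsIdempotentElem a → a = 0 ∨ a = 1 :=
    (Groth.Agent.S4495.result X.toLocallyRingedSpace).1 (inferInstanceAs (PreconnectedSpace X))
  obtain ⟨x⟩ : Nonempty X := ConnectedSpace.toNonempty
  haveI : Nontrivial Γ(X, ⊤) := (X.presheaf.germ ⊤ x trivial).hom.domain_nontrivial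
  obtain ⟨i⟩ := exists_tensor_iso k X L
  let ψ := i.commRingCatIsoToRingEquiv
  have hne : Nonempty (Curv2.bc k X L) := by
    by_contra hcon
    rw [not_nonempty_iff] at hcon
    have hz : ∀ a : Γ(Curv2.bc k X L, ⊤), a = 0 := fun a =>
      TopCat.Presheaf.section_ext (Curv2.bc k X L).sheaf ⊤ a 0 fun y _ => isEmptyElim y
    haveI : Subsingleton Γ(Curv2.bc k X L, ⊤) := ⟨fun a b => (hz a).trans (hz b).symm⟩
    haveI := ψ.symm.injective.subsingleton
    exact zero_ne_one (Algebra.TensorProduct.includeLeft_injective (S := k) (A := Γ(X, ⊤))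
      (algebraMap k L).injective (Subsingleton.elim (α := TensorProduct k Γ(X, ⊤) L) _ _))
  have hpre : ¬ PreconnectedSpace ↥(Curv2.bc k X L) := fun h =>
    hdisc { toPreconnectedSpace := h, toNonempty := hne }
  have hex := mt (Groth.Agent.S4495.result (Curv2.bc k X L).toLocallyRingedSpace).2 hpre
  push Not at hex
  obtain ⟨e, he, h0, h1⟩ := hex
  obtain ⟨F, hF, φ, hφ⟩ := exists_intermediateField_hom k Γ(X, ⊤) hA (e := ψ e) (he.map ψ)
    (fun h => h0 (ψ.injective (h.trans (map_zero ψ).symm))) (fun h => h1 (ψ.injective (h.trans (map_one ψ).symm)))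
  exact ⟨F, hF, exists_factor_of_hom k X φ hφ⟩

end Groth.Agent.QsChow84
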