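import Groth.Prelude.Def_Pi1
import Groth.Agent.QsChow84.Split
import Mathlib

/-! An irreducible normal scheme with reducible base change is defined over a subfield. -/

set_option autoImplicit false

universe u

open CategoryTheory CategoryTheory.Limits AlgebraicGeometry Opposite

namespace Groth.Agent.QsChow84

variable (k : Type u) [Field k] (X : Scheme.{u}) [X.Over (Spec (CommRingCat.of k))]

theorem eq_toSpecΓ_comp_gammaMap :
    X ↘ Spec (CommRingCat.of k) = X.toSpecΓ ≫ Spec.map (gammaMap k X) := by
  rw [Spec.map_comp, ← Category.assoc, ← Scheme.toSpecΓ_naturality, Category.assoc,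
    toSpecΓ_SpecMap_ΓSpecIso_inv, Category.comp_id]

variable [IrreducibleSpace X]

/-- The structure map to the function field. -/
noncomputable abbrev genMap : CommRingCat.of k ⟶ X.functionField :=
  gammaMap k X ≫ X.presheaf.germ ⊤ (genericPoint X) trivial

theorem fromSpecStalk_generic_comp :
    X.fromSpecStalk (genericPoint X) ≫ X ↘ Spec (CommRingCat.of k) = Spec.map (genMap k X) := by
  rw [eq_toSpecΓ_comp_gammaMap, ← Category.assoc, Scheme.fromSpecStalk_toSpecΓ, ← Spec.map_comp]

/-- If `K ⊗ L` has one prime, the base change is irreducible. -/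
theorem irreducibleSpace_bc (L : Type u) [Field L] [Algebra k L] [IsIntegral X]
    (h : letI := (genMap k X).hom.toAlgebra; Subsingleton (PrimeSpectrum (TensorProduct k X.functionField L))) :
    IrreducibleSpace ↥(Curv2.bc k X L) := by
  letI := (genMap k X).hom.toAlgebra
  set η := genericPoint X
  let f0 := Spec.map (CommRingCat.ofHom (algebraMap k L))
  let π := Curv2.bcFst k X L
  let ι0 : Spec X.functionField ⟶ X := X.fromSpecStalk η
  let e : pullback ι0 π ≅ Spec (CommRingCat.of (TensorProduct k X.functionField L)) :=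
    pullbackRightPullbackFstIso (X ↘ Spec (CommRingCat.of k)) f0 ι0 ≪≫
      pullback.congrHom (fromSpecStalk_generic_comp k X) rfl ≪≫ pullbackSpecIso k X.functionField L
  haveI : Subsingleton ↥(Spec (CommRingCat.of (TensorProduct k X.functionField L))) := h
  haveI : Subsingleton ↥(pullback ι0 π) := e.hom.homeomorph.injective.subsingleton
  let c : Spec X.functionField := IsLocalRing.closedPoint (X.presheaf.stalk η)
  have hc : ι0 c = η := Scheme.fromSpecStalk_closedPoint
  haveI : UniversallyOpen f0 := inferInstance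
  have hopen : IsOpenMap π := π.isOpenMap
  obtain ⟨y0, hy0⟩ : ∃ y, π y = η := by
    haveI : Surjective π := inferInstance
    exact π.surjective η
  have huniq : ∀ y, π y = η → y = y0 := by
    intro y hy
    obtain ⟨z, -, hz⟩ := Scheme.Pullback.exists_preimage_pullback c y (hc.trans hy.symm : ι0 c = π y)
    obtain ⟨z0, -, hz0⟩ := Scheme.Pullback.exists_preimage_pullback c y0 (hc.trans hy0.symm : ι0 c = π y0)
    rw [← hz, ← hz0, Subsingleton.elim z z0]
  have hden : ∀ U : Set ↥(Curv2.bc k X L), IsOpen U → U.Nonempty → y0 ∈ U := by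
    intro U hU hne
    obtain ⟨y, hyU, hy⟩ := ((genericPoint_spec X).mem_open_set_iff (hopen U hU)).2
      (by simpa using hne.image π)
    rwa [← huniq y hy]
  have : PreirreducibleSpace ↥(Curv2.bc k X L) :=
    ⟨fun U V hU hV ⟨a, _, ha⟩ ⟨b, _, hb⟩ => ⟨y0, trivial, hden U hU ⟨a, ha⟩, hden V hV ⟨b, hb⟩⟩⟩
  exact { toPreirreducibleSpace := this, toNonempty := ⟨y0⟩ }

/-- A field extension with trivial idempotents in `K ⊗ L` gives one prime. -/
theorem exists_idem_of_not_subsingleton (K : Type u) [Field K] [Algebra k K] (L : Type u) [Field L]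
    [Algebra k L] [FiniteDimensional k L] (h : ¬ Subsingleton (PrimeSpectrum (TensorProduct k K L))) :
    ∃ e : TensorProduct k K L, IsIdempotentElem e ∧ e ≠ 0 ∧ e ≠ 1 := by
  by_contra hcon
  push Not at hcon
  haveI : IsArtinianRing (TensorProduct k K L) := .of_finite K _
  refine h ⟨fun p q => ?_⟩
  let S : Set (PrimeSpectrum (TensorProduct k K L)) := {p}
  obtain ⟨e, he, hS⟩ := PrimeSpectrum.exists_idempotent_basicOpen_eq_of_isClopen (s := S) (isClopen_discrete _)
  have hp : p ∈ (PrimeSpectrum.basicOpen e : Set (PrimeSpectrum (TensorProduct k K L))) := hS ▸ rfl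
  have he1 : e = 1 := hcon e he fun h0 => hp (h0 ▸ p.asIdeal.zero_mem)
  have : q ∈ S := hS ▸ (show q ∈ PrimeSpectrum.basicOpen e by rw [he1]; exact q.asIdeal.one_notMem)
  exact this.symm

variable [IsIntegral X]

/-- An element of the function field integral over `k` is a global section of a normal scheme. -/
theorem exists_global_of_isIntegral (hX : Pi1.IsNormalScheme X) (a : X.functionField)
    (ha : letI := (genMap k X).hom.toAlgebra; _root_.IsIntegral k a) :
    ∃ s : Γ(X, ⊤), X.presheaf.germ ⊤ (genericPoint X) trivial s = a := by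
  letI := (genMap k X).hom.toAlgebra
  set η := genericPoint X
  have hspec : ∀ x : X, η ⤳ x := fun x => (genericPoint_spec X).specializes trivial
  have hloc : ∀ x : X, ∃ (U : X.Opens) (_ : x ∈ U) (hη : η ∈ U) (t : Γ(X, U)), X.presheaf.germ U η hη t = a := by
    intro x
    haveI := (hX x).1
    haveI := (hX x).2
    have hint : _root_.IsIntegral (X.presheaf.stalk x) a := by
      obtain ⟨p, hp, hp0⟩ := ha
      refine ⟨p.map (gammaMap k X ≫ X.presheaf.germ ⊤ x trivial).hom, hp.map _, ?_⟩
      rw [Polynomial.eval₂_map]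
      convert hp0 using 2
      show ((gammaMap k X ≫ X.presheaf.germ ⊤ x trivial) ≫ X.presheaf.stalkSpecializes (hspec x)).hom = _
      exact congrArg CommRingCat.Hom.hom ((Category.assoc _ _ _).trans
        (congrArg (gammaMap k X ≫ ·) (X.presheaf.germ_stalkSpecializes (U := ⊤) trivial (hspec x))))
      rfl
    obtain ⟨b, hb⟩ := (IsIntegrallyClosed.isIntegral_iff (R := X.presheaf.stalk x)).1 hint
    obtain ⟨U, hxU, t, rfl⟩ := X.presheaf.exists_germ_eq b
    refine ⟨U, hxU, ((genericPoint_spec X).mem_open_set_iff U.isOpen).2 ⟨x, trivial, hxU⟩, t, ?_⟩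
    rw [← hb]
    exact (X.presheaf.germ_stalkSpecializes_apply hxU (hspec x) t).symm
  choose U hxU hηU t ht using hloc
  obtain ⟨s, hs, -⟩ := X.sheaf.existsUnique_gluing' U ⊤ (fun x => homOfLE le_top)
    (fun x _ => TopologicalSpace.Opens.mem_iSup.2 ⟨x, hxU x⟩) t (fun i j => by
      refine germ_injective_of_isIntegral X (U := U i ⊓ U j) η ⟨hηU i, hηU j⟩ ?_
      show X.presheaf.germ _ η _ (X.presheaf.map _ (t i)) = X.presheaf.germ _ η _ (X.presheaf.map _ (t j))
      have hm : η ∈ U i ⊓ U j := ⟨hηU i, hηU j⟩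
      exact (TopCat.Presheaf.germ_res_apply' X.presheaf _ η hm (t i)).trans ((ht i).trans
        ((ht j).symm.trans (TopCat.Presheaf.germ_res_apply' X.presheaf _ η hm (t j)).symm)))
  refine ⟨s, ?_⟩
  rw [← ht η, ← hs η]
  exact (TopCat.Presheaf.germ_res_apply' X.presheaf _ η (hηU η) s).symm

theorem exists_factor_of_reducible (hX : Pi1.IsNormalScheme X)
    (L : Type u) [Field L] [Algebra k L] [FiniteDimensional k L] [IsGalois k L]
    (hred : ¬ IrreducibleSpace ↥(Curv2.bc k X L)) :
    ∃ F : IntermediateField k L, F ≠ ⊥ ∧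
      ∃ g : X ⟶ Spec (CommRingCat.of F),
        g ≫ Spec.map (CommRingCat.ofHom (algebraMap k F)) = X ↘ Spec (CommRingCat.of k) := by
  letI := (genMap k X).hom.toAlgebra
  have hns : ¬ Subsingleton (PrimeSpectrum (TensorProduct k X.functionField L)) :=
    fun h => hred (irreducibleSpace_bc k X L h)
  obtain ⟨e, he, h0, h1⟩ := exists_idem_of_not_subsingleton k X.functionField L hns
  obtain ⟨F, hF, φ, hφ⟩ := exists_intermediateField_hom k X.functionField
    (fun a ha => IsIdempotentElem.iff_eq_zero_or_one.1 ha) he h0 h1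
  let Γmap : Γ(X, ⊤) →+* X.functionField := (X.presheaf.germ ⊤ (genericPoint X) trivial).hom
  have hinj : Function.Injective Γmap := germ_injective_of_isIntegral X (U := ⊤) _ trivial
  have hmem : ∀ a : F, φ a ∈ Γmap.range := fun a => by
    refine exists_global_of_isIntegral k X hX (φ a) ?_
    let φ' : F →ₐ[k] X.functionField := { φ with commutes' := RingHom.congr_fun hφ }
    exact (IsIntegral.of_finite k a).map φ'
  let e' : Γ(X, ⊤) ≃+* Γmap.range := RingEquiv.ofBijective Γmap.rangeRestrict
    ⟨fun a b h => hinj (congrArg Subtype.val h), Γmap.rangeRestrict_surjective⟩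
  refine ⟨F, hF, exists_factor_of_hom k X (e'.symm.toRingHom.comp (φ.codRestrict _ hmem)) ?_⟩
  refine RingHom.ext fun c => hinj ?_
  show Γmap (e'.symm ⟨φ (algebraMap k F c), _⟩) = _
  rw [show ∀ z, Γmap (e'.symm z) = z.1 from fun z => congrArg Subtype.val (e'.apply_symm_apply z)]
  exact RingHom.congr_fun hφ c

end Groth.Agent.QsChow84
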