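import Groth.Agent.QsChow84.Fixed

/-! The kernel of the presentation map. -/

set_option autoImplicit false

open MvPolynomial QsChow

namespace Groth.Agent.QsChow84

variable {n : ℕ}

/-- The presented algebra. -/
abbrev Pres (n : ℕ) : Type := FreeE n ⧸ presIdeal n

noncomputable abbrev mkE (q : FreeE n) : Pres n := Ideal.Quotient.mk (presIdeal n) q

/-- A monomial in the presented algebra. -/
noncomputable def mon (n k i d : ℕ) (f : Fin (numVars n - 2) → ℕ) : Pres n :=
  mkE (evar n 1) ^ k * mkE (evar n 2) ^ i * mkE (xvar n) ^ d * ∏ l, mkE (evar n (l.val + 3)) ^ f l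

/-- The normal forms. -/
noncomputable def nf (n : ℕ) :
    Idx n ⊕ (Fin (hh n) × ∀ l : Fin (numVars n - 2), Fin (Nj n l)) → Pres n :=
  Sum.elim (fun x => mon n x.1.val x.2.1.val 0 fun l => (x.2.2 l).val)
    (fun r => mon n 0 r.1.val 1 fun l => (r.2 l).val)

theorem two_eq_zero_pres : (2 : Pres n) = 0 := by
  have : (algebraMap (ZMod 2) (Pres n)) 2 = 0 := by rw [show (2 : ZMod 2) = 0 from rfl, map_zero]
  simpa [map_ofNat] using this

theorem mkE_mem {q : FreeE n}
    (h : q ∈ ({evar n 1 ^ n, evar n 1 * xvar n, xvar n ^ 2} : Set (FreeE n)) ∪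
      Set.range fun i : Fin (numVars n) => hrel n (i.val + 1)) : mkE q = 0 :=
  Ideal.Quotient.eq_zero_iff_mem.2 (Ideal.subset_span h)

theorem mon_mem (hn : 2 ≤ n) : ∀ (m k i d : ℕ) (f : Fin (numVars n - 2) → ℕ), ∑ l, f l = m →
    mon n k i d f ∈ Submodule.span (ZMod 2) (Set.range (nf n)) := by
  classical
  have h2 := two_eq_zero_pres (n := n)
  have hA : mkE (evar n 1) ^ n = (0 : Pres n) := by
    rw [← map_pow]; exact mkE_mem (Or.inl (Or.inl rfl))
  have hAX : mkE (evar n 1) * mkE (xvar n) = (0 : Pres n) := by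
    rw [← map_mul]; exact mkE_mem (Or.inl (Or.inr (Or.inl rfl)))
  have hXX : mkE (xvar n) ^ 2 = (0 : Pres n) := by
    rw [← map_pow]; exact mkE_mem (Or.inl (Or.inr (Or.inr rfl)))
  intro m
  induction m using Nat.strong_induction_on with
  | _ m ih =>
    intro k i
    induction i using Nat.strong_induction_on generalizing k with
    | _ i ihi =>
      intro d f hm
      by_cases hd : 2 ≤ d
      · rw [mon, pow_eq_zero_of_le hd hXX, mul_zero, zero_mul]; exact zero_mem _
      by_cases hk : n ≤ k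
      · rw [mon, pow_eq_zero_of_le hk hA, zero_mul, zero_mul, zero_mul]; exact zero_mem _
      by_cases hkd : 1 ≤ k ∧ d = 1
      · obtain ⟨k', rfl⟩ : ∃ k', k = k' + 1 := ⟨k - 1, by omega⟩
        rw [mon, hkd.2, show mkE (evar n 1) ^ (k' + 1) * mkE (evar n 2) ^ i * mkE (xvar n) ^ 1 =
          mkE (evar n 1) ^ k' * mkE (evar n 2) ^ i * (mkE (evar n 1) * mkE (xvar n)) by ring, hAX,
          mul_zero, zero_mul]
        exact zero_mem _
      by_cases hf : ∀ l, f l < Nj n l
      · by_cases hi : i < hh n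
        · rcases Nat.le_one_iff_eq_zero_or_eq_one.1 (show d ≤ 1 by omega) with rfl | rfl
          · exact Submodule.subset_span ⟨Sum.inl (⟨k, by omega⟩, ⟨i, hi⟩, fun l => ⟨f l, hf l⟩), rfl⟩
          · obtain rfl : k = 0 := by omega
            exact Submodule.subset_span ⟨Sum.inr (⟨i, hi⟩, fun l => ⟨f l, hf l⟩), rfl⟩
        · obtain ⟨c, hc⟩ : ∃ c, klog n 2 = c + 1 :=
            ⟨klog n 2 - 1, (Nat.sub_add_cancel (klog_two_pos hn)).symm⟩
          have hrel2 : mkE (evar n 1 ^ (2 ^ klog n 2 - n) * xvar n + sPoly n 2) = (0 : Pres n) :=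
            mkE_mem (Or.inr ⟨⟨1, by have := numVars_two hn; omega⟩, by simp [hrel]⟩)
          simp only [sPoly, hc, Finset.sum_range_succ, map_add, map_mul, map_sum, map_pow, Nat.sub_self,
            pow_zero, one_mul] at hrel2
          have hE : mkE (evar n 2) ^ 2 ^ c = (mkE (evar n 1) ^ (2 ^ (c + 1) - n) * mkE (xvar n) +
              ∑ t ∈ Finset.range c,
                mkE (evar n 1) ^ (2 ^ (c + 1) - 2 ^ (t + 1)) * mkE (evar n 2) ^ 2 ^ t : Pres n) := by
            linear_combination -hrel2 + (mkE (evar n 2) ^ 2 ^ c : Pres n) * h2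
          have hh' : hh n = 2 ^ c := by rw [hh, hc, Nat.add_sub_cancel]
          have key : mon n k i d f = mkE (evar n 2) ^ 2 ^ c * mon n k (i - 2 ^ c) d f := by
            rw [mon, mon, show mkE (evar n 2) ^ i = (mkE (evar n 2) ^ 2 ^ c * mkE (evar n 2) ^ (i - 2 ^ c) : Pres n) by
              rw [← pow_add]; congr 1; omega]
            ring
          have hc1 : 1 ≤ 2 ^ c := Nat.one_le_two_pow
          rw [key, hE, add_mul, Finset.sum_mul]
          refine add_mem ?_ (Submodule.sum_mem _ fun t ht => ?_)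
          · rw [show mkE (evar n 1) ^ (2 ^ (c + 1) - n) * mkE (xvar n) * mon n k (i - 2 ^ c) d f =
              mon n (2 ^ (c + 1) - n + k) (i - 2 ^ c) (d + 1) f by simp only [mon]; ring]
            exact ihi _ (by omega) _ _ _ hm
          · rw [show mkE (evar n 1) ^ (2 ^ (c + 1) - 2 ^ (t + 1)) * mkE (evar n 2) ^ 2 ^ t * mon n k (i - 2 ^ c) d f =
              mon n (2 ^ (c + 1) - 2 ^ (t + 1) + k) (i - 2 ^ c + 2 ^ t) d f by simp only [mon]; ring]
            have := Nat.pow_lt_pow_right (a := 2) (by norm_num) (Finset.mem_range.1 ht)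
            exact ihi _ (by omega) _ _ _ hm
      push Not at hf
      obtain ⟨l₀, hl₀⟩ := hf
      have hpos : 0 < Nj n l₀ := Nat.two_pow_pos _
      have hsum : ∑ l, Function.update f l₀ (f l₀ - Nj n l₀) l < m := by
        rw [← hm]
        refine Finset.sum_lt_sum (fun l _ => ?_) ⟨l₀, Finset.mem_univ _, by simp; omega⟩
        rcases eq_or_ne l l₀ with rfl | hl
        · simp
        · simp [hl]
      have key : mon n k i d f =
          mkE (evar n (l₀.val + 3)) ^ Nj n l₀ * mon n k i d (Function.update f l₀ (f l₀ - Nj n l₀)) := by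
        rw [mon, mon, ← Finset.mul_prod_erase _ _ (Finset.mem_univ l₀),
          ← Finset.mul_prod_erase _ (fun l => mkE (evar n (l.val + 3)) ^ Function.update f l₀ (f l₀ - Nj n l₀) l)
            (Finset.mem_univ l₀)]
        have he : ∏ l ∈ Finset.univ.erase l₀,
              mkE (evar n (l.val + 3)) ^ Function.update f l₀ (f l₀ - Nj n l₀) l =
            ∏ l ∈ Finset.univ.erase l₀, (mkE (evar n (l.val + 3)) ^ f l : Pres n) :=
          Finset.prod_congr rfl fun l hl => by rw [Function.update_of_ne (Finset.ne_of_mem_erase hl)]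
        rw [he, Function.update_self]
        conv_lhs => rw [show f l₀ = Nj n l₀ + (f l₀ - Nj n l₀) by omega, pow_add]
        ring
      have hr : mkE (hrel n (l₀.val + 3)) = (0 : Pres n) :=
        mkE_mem (Or.inr ⟨⟨l₀.val + 2, by omega⟩, rfl⟩)
      simp only [hrel] at hr
      rw [if_neg (by omega), if_pos ⟨by omega, by omega⟩] at hr
      simp only [sPoly, map_add, map_mul, map_sum, map_pow, Finset.mul_sum] at hr
      have hU : mkE (evar n (l₀.val + 3)) ^ Nj n l₀ =
          (mkE (evar n 1) ^ ((2 * (l₀.val + 3) - 3) * Nj n l₀ - n) * mkE (xvar n) +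
            ∑ t ∈ Finset.range (klog n (l₀.val + 3)), mkE (evar n 1) ^ ((2 * (l₀.val + 3) - 4) * Nj n l₀) *
              (mkE (evar n 1) ^ (Nj n l₀ - 2 ^ (t + 1)) * mkE (evar n 2) ^ 2 ^ t) : Pres n) := by
        simp only [Nj]
        linear_combination -hr + (mkE (evar n (l₀.val + 3)) ^ 2 ^ klog n (l₀.val + 3) : Pres n) * h2
      rw [key, hU, add_mul, Finset.sum_mul]
      refine add_mem ?_ (Submodule.sum_mem _ fun t _ => ?_)
      · rw [show mkE (evar n 1) ^ ((2 * (l₀.val + 3) - 3) * Nj n l₀ - n) * mkE (xvar n) *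
            mon n k i d (Function.update f l₀ (f l₀ - Nj n l₀)) =
          mon n ((2 * (l₀.val + 3) - 3) * Nj n l₀ - n + k) i (d + 1) (Function.update f l₀ (f l₀ - Nj n l₀)) by
            simp only [mon]; ring]
        exact ih _ hsum _ _ _ _ rfl
      · rw [show mkE (evar n 1) ^ ((2 * (l₀.val + 3) - 4) * Nj n l₀) *
            (mkE (evar n 1) ^ (Nj n l₀ - 2 ^ (t + 1)) * mkE (evar n 2) ^ 2 ^ t) *
            mon n k i d (Function.update f l₀ (f l₀ - Nj n l₀)) =
          mon n ((2 * (l₀.val + 3) - 4) * Nj n l₀ + (Nj n l₀ - 2 ^ (t + 1)) + k) (i + 2 ^ t) d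
            (Function.update f l₀ (f l₀ - Nj n l₀)) by simp only [mon]; ring]
        exact ih _ hsum _ _ _ _ rfl

theorem span_nf (hn : 2 ≤ n) : Submodule.span (ZMod 2) (Set.range (nf n)) = ⊤ := by
  classical
  rw [eq_top_iff]
  rintro y -
  let g : Option (Option (Option (Fin (numVars n - 2)))) → Pres n
    | none => mkE (evar n 1)
    | some none => mkE (evar n 2)
    | some (some none) => mkE (xvar n)
    | some (some (some l)) => mkE (evar n (l.val + 3))
  have hgen : ∀ z : Pres n, z ∈ Algebra.adjoin (ZMod 2) (Set.range g) := by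
    intro z
    obtain ⟨F, rfl⟩ := Ideal.Quotient.mk_surjective z
    induction F using MvPolynomial.induction_on with
    | C c =>
      rw [show (Ideal.Quotient.mk (presIdeal n)) (C c) = algebraMap (ZMod 2) (Pres n) c from rfl]
      exact Subalgebra.algebraMap_mem _ c
    | add p q hp hq => rw [map_add]; exact add_mem hp hq
    | mul_X p i hp =>
      rw [map_mul]
      refine mul_mem hp (Algebra.subset_adjoin ?_)
      match i with
      | none => exact ⟨some (some none), rfl⟩
      | some ⟨iv, hiv⟩ =>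
        have hX : (X (some ⟨iv, hiv⟩) : FreeE n) = evar n (iv + 1) := by
          rw [evar, dif_pos ⟨by omega, by omega⟩]; rfl
        rw [hX]
        match iv, hiv with
        | 0, _ => exact ⟨none, rfl⟩
        | 1, _ => exact ⟨some none, rfl⟩
        | l + 2, hiv =>
          exact ⟨some (some (some (⟨l, by omega⟩ : Fin (numVars n - 2)))), rfl⟩
  have h := hgen y
  rw [Algebra.adjoin_range_eq_range_aeval] at h
  obtain ⟨F, rfl⟩ := h
  show aeval g F ∈ _
  rw [F.as_sum, map_sum]
  refine Submodule.sum_mem _ fun d _ => ?_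
  rw [aeval_monomial, ← Algebra.smul_def, Finsupp.prod_fintype _ _ (fun _ => pow_zero _),
    Fintype.prod_option, Fintype.prod_option, Fintype.prod_option]
  refine Submodule.smul_mem _ _ ?_
  rw [← mul_assoc, ← mul_assoc]
  exact mon_mem hn _ _ _ _ _ rfl

theorem ker_phi (hn : 2 ≤ n) : RingHom.ker (phi n) = presIdeal n := by
  classical
  refine le_antisymm (fun q hq => ?_) (presIdeal_le_ker hn)
  let ψ : Pres n →ₐ[ZMod 2] P n :=
    Ideal.Quotient.liftₐ (presIdeal n) (phi n) fun a ha => RingHom.mem_ker.1 (presIdeal_le_ker hn ha)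
  have hψ : ∀ p, ψ (mkE p) = phi n p := fun p => rfl
  let sh : Idx n ⊕ (Fin (hh n) × ∀ l : Fin (numVars n - 2), Fin (Nj n l)) → Idx n ⊕ Idx n :=
    Sum.elim Sum.inl fun r => Sum.inr (⟨n - 1, by omega⟩, r)
  have hsh : Function.Injective sh := by
    rintro (x | x) (y | y) hxy <;> simp_all [sh]
  have hnf : ∀ x, ψ (nf n x) = Sum.elim (b0 n) (fun x => b0 n x * ε n) (sh x) := by
    rintro (x | r) <;>
      simp only [nf, mon, sh, Sum.elim_inl, Sum.elim_inr, map_mul, map_pow, map_prod, hψ, phi_e1 hn,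
        phi_e2 hn, phi_ej, phi_x, b0] <;> ring
  obtain ⟨c, hc⟩ := (Submodule.mem_span_range_iff_exists_fun (ZMod 2)).1
    (span_nf hn ▸ Submodule.mem_top : mkE q ∈ Submodule.span (ZMod 2) (Set.range (nf n)))
  have h0 : ∑ x, c x • Sum.elim (b0 n) (fun x => b0 n x * ε n) (sh x) = 0 := by
    simp only [← hnf, ← map_smul, ← map_sum, hc, hψ]
    exact RingHom.mem_ker.1 hq
  have hz := Fintype.linearIndependent_iff.1 ((linearIndependent_basis hn).comp sh hsh) c h0
  rw [← Ideal.Quotient.eq_zero_iff_mem]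
  show mkE q = 0
  rw [← hc]
  exact Finset.sum_eq_zero fun x _ => by rw [hz x, zero_smul]

end Groth.Agent.QsChow84
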