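import Groth.Prelude.Def_W4c4chowquasisplitNorm
import Mathlib

/-! The norm subgroup of the Chow group of the point. -/

set_option autoImplicit false

universe u

open CategoryTheory AlgebraicGeometry

namespace Groth.Agent.QsChow84

/-- A closed point of an affine scheme has surjective evaluation. -/
theorem Γevaluation_surjective' {T : Scheme.{u}} [IsAffine T] {x : T} (hx : IsClosed ({x} : Set T)) :
    Function.Surjective (T.Γevaluation x) := by
  have := isClosed_singleton_iff_isClosedImmersion.mp hx
  have h2 : Function.Surjective (T.fromSpecResidueField x).appTop :=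
    (IsClosedImmersion.hasAffineProperty.iff_of_isAffine (f := T.fromSpecResidueField x).mp
      inferInstance).2
  have e : (T.fromSpecResidueField x).appTop ≫ (Scheme.ΓSpecIso (T.residueField x)).hom =
      T.Γevaluation x := by
    rw [Scheme.fromSpecResidueField, Scheme.Hom.comp_appTop, Scheme.fromSpecStalk_appTop]
    simp only [Scheme.Γevaluation, Scheme.evaluation, Category.assoc]
    simp [Scheme.ΓSpecIso_naturality, Scheme.ΓSpecIso_naturality_assoc]
  rw [← e]
  exact (ConcreteCategory.bijective_of_isIso (Scheme.ΓSpecIso (T.residueField x)).hom).surjective.comp h2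

/-- The evaluation at the point of the spectrum of a field. -/
theorem specEval_bijective (F : Type u) [Field F] (x : Spec (CommRingCat.of F)) :
    Function.Bijective ((Scheme.ΓSpecIso (CommRingCat.of F)).inv ≫ (Spec (CommRingCat.of F)).Γevaluation x).hom := by
  refine ⟨RingHom.injective _, ?_⟩
  exact (Γevaluation_surjective' (Set.subsingleton_of_subsingleton (α := PrimeSpectrum F) (s := {x})).isClosed).comp
    (ConcreteCategory.bijective_of_isIso (Scheme.ΓSpecIso (CommRingCat.of F)).inv).surjective

theorem residueDegree_specMap (k F : Type u) [Field k] [Field F] [Algebra k F] (x : Spec (CommRingCat.of F)) :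
    (Spec.map (CommRingCat.ofHom (algebraMap k F))).residueDegree x = Module.finrank k F := by
  let p := Spec.map (CommRingCat.ofHom (algebraMap k F))
  let i := RingEquiv.ofBijective _ (specEval_bijective k (p x))
  let j := RingEquiv.ofBijective _ (specEval_bijective F x)
  letI := (p.residueFieldMap x).hom.toAlgebra
  refine (Algebra.finrank_eq_of_equiv_equiv i j ?_).symm
  refine RingHom.ext fun a => ?_
  show (p.residueFieldMap x).hom (((Scheme.ΓSpecIso (CommRingCat.of k)).inv ≫ (Spec (CommRingCat.of k)).Γevaluation (p x)).hom a) =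
    ((Scheme.ΓSpecIso (CommRingCat.of F)).inv ≫ (Spec (CommRingCat.of F)).Γevaluation x).hom (algebraMap k F a)
  refine (Scheme.Γevaluation_naturality_apply (f := p) x _).trans ?_
  exact congrArg ((Spec (CommRingCat.of F)).Γevaluation x)
    (ConcreteCategory.congr_hom (Scheme.ΓSpecIso_inv_naturality (CommRingCat.ofHom (algebraMap k F))) a).symm

instance (F : Type u) [Field F] : Subsingleton (Spec (CommRingCat.of F)) :=
  inferInstanceAs (Subsingleton (PrimeSpectrum F))

variable (k : Type u) [Field k] (K : Type u) [Field K] [Algebra k K]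

theorem ratTriv_pt_eq_bot : ChowOps.ratTriv (Spec (CommRingCat.of k)) (fun _ => 0) 0 = ⊥ := by
  rw [eq_bot_iff, ChowOps.ratTriv, AddSubgroup.closure_le]
  rintro ⟨a, ha⟩ ⟨ι, ξ, f, hξ, -, -, heq⟩
  have : IsEmpty ι := ⟨fun i => by simpa using hξ i⟩
  refine Subtype.ext ?_
  ext x
  exact (heq x).trans (finsum_of_isEmpty _)

/-- The degree on the Chow group of the point. -/
noncomputable def ptDeg : ChowOps.CH (Spec (CommRingCat.of k)) (fun _ => 0) 0 →+ ℤ :=
  QuotientAddGroup.lift _
    { toFun := fun a => (a : AlgebraicCycle (Spec (CommRingCat.of k)) ℤ) (IsLocalRing.closedPoint k)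
      map_zero' := rfl
      map_add' := fun _ _ => rfl }
    (by rw [ratTriv_pt_eq_bot]; exact bot_le)

theorem ptDeg_cl (α : AlgebraicCycle (Spec (CommRingCat.of k)) ℤ)
    (h : α ∈ Cyc.Zk (Spec (CommRingCat.of k)) (fun _ => 0) 0) :
    ptDeg k (ChowOps.cl α h) = α (IsLocalRing.closedPoint k) := rfl

theorem ptDeg_injective : Function.Injective (ptDeg k) := by
  rw [injective_iff_map_eq_zero]
  intro c hc
  obtain ⟨a, rfl⟩ := QuotientAddGroup.mk_surjective c
  have : a = 0 := Subtype.ext (by
    ext x
    rw [Subsingleton.elim x (IsLocalRing.closedPoint k)]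
    exact hc)
  rw [this]; rfl

theorem exists_cycle_pt (F : Type u) [Field F] (m : ℤ) :
    ∃ α : AlgebraicCycle (Spec (CommRingCat.of F)) ℤ, ∀ x, α x = m := by
  classical
  exact ⟨{ toFun := fun _ => m
           supportWithinDomain' := by simp
           supportLocallyFiniteWithinDomain' := fun x _ => ⟨Set.univ, Filter.univ_mem, Set.toFinite _⟩ }, fun _ => rfl⟩

theorem ptDeg_surjective : Function.Surjective (ptDeg k) := fun m => by
  obtain ⟨α, hα⟩ := exists_cycle_pt k m
  exact ⟨ChowOps.cl α (fun x hx => absurd rfl hx), hα _⟩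

theorem map_pt (F : IntermediateField k K) (α : AlgebraicCycle (Spec (CommRingCat.of (F : Type u))) ℤ) :
    AlgebraicCycle.map (Spec.map (CommRingCat.ofHom (algebraMap k F))) (fun _ => (0 : ℤ)) (fun _ => (0 : ℤ)) α
        (IsLocalRing.closedPoint k) = α (IsLocalRing.closedPoint F) * Module.finrank k F := by
  show (∑ᶠ x ∈ _, _) = _
  refine (finsum_mem_congr (t := {(IsLocalRing.closedPoint F : Spec (CommRingCat.of (F : Type u)))})
    (Set.ext fun x => ⟨fun _ => Subsingleton.elim (α := Spec (CommRingCat.of (F : Type u))) _ _,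
      fun _ => Subsingleton.elim (α := Spec (CommRingCat.of k)) _ _⟩) fun _ _ => rfl).trans ?_
  rw [finsum_mem_singleton]
  congr 1
  show ((if (0 : ℤ) = 0 then (Spec.map (CommRingCat.ofHom (algebraMap k F))).residueDegree _ else 0 : ℕ) : ℤ) = _
  rw [if_pos rfl]
  exact congrArg _ (residueDegree_specMap k F _)

theorem ptNormSubgroup_eq_comap :
    QsChow.ptNormSubgroup k K = (AddSubgroup.closure
      {d : ℤ | ∃ F : IntermediateField k K, FiniteDimensional k F ∧ F ≠ ⊥ ∧ d = Module.finrank k F}).comap
      (ptDeg k) := by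
  refine AddSubgroup.map_injective (ptDeg_injective k) ?_
  rw [AddSubgroup.map_comap_eq_self_of_surjective (ptDeg_surjective k), QsChow.ptNormSubgroup,
    AddMonoidHom.map_closure]
  refine le_antisymm ((AddSubgroup.closure_le _).2 ?_) ((AddSubgroup.closure_le _).2 ?_)
  · rintro _ ⟨_, ⟨F, hF, hne, α, h, rfl⟩, rfl⟩
    rw [SetLike.mem_coe]
    erw [ptDeg_cl, map_pt]
    rw [← smul_eq_mul]
    refine zsmul_mem ?_ _
    exact AddSubgroup.subset_closure ⟨F, hF, hne, rfl⟩
  · rintro d ⟨F, hF, hne, rfl⟩
    obtain ⟨α, hα⟩ := exists_cycle_pt F 1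
    have hmem : AlgebraicCycle.map (Spec.map (CommRingCat.ofHom (algebraMap k F)))
        (fun _ => (0 : ℤ)) (fun _ => (0 : ℤ)) α ∈ Cyc.Zk (Spec (CommRingCat.of k)) (fun _ => 0) 0 :=
      fun x hx => absurd rfl hx
    have e : ptDeg k (ChowOps.cl _ hmem) = (Module.finrank k F : ℤ) :=
      (map_pt k K F α).trans ((congrArg (· * (Module.finrank k F : ℤ)) (hα _)).trans (one_mul _))
    rw [← e]
    exact AddSubgroup.subset_closure (Set.mem_image_of_mem (ptDeg k) ⟨F, hF, hne, α, hmem, rfl⟩)

theorem finrank_eq_card_fixing (L : IntermediateField k K) [FiniteDimensional k L] [IsGalois k L]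
    (H : Subgroup (L ≃ₐ[k] L)) :
    Module.finrank k (IntermediateField.lift (IntermediateField.fixedField H)) = H.index := by
  have h1 := (IntermediateField.liftAlgEquiv (IntermediateField.fixedField H)).toLinearEquiv.finrank_eq
  rw [← h1]
  have h2 := Module.finrank_mul_finrank k (IntermediateField.fixedField H) L
  rw [IntermediateField.finrank_fixedField_eq_card, ← IsGalois.card_aut_eq_finrank k L, ← H.index_mul_card] at h2
  exact Nat.eq_of_mul_eq_mul_right Nat.card_pos h2

theorem exists_mem_finrank_eq_index (L : IntermediateField k K) [FiniteDimensional k L] [IsGalois k L]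
    (H : Subgroup (L ≃ₐ[k] L)) (hH : H.index ≠ 1) :
    ∃ F : IntermediateField k K, FiniteDimensional k F ∧ F ≠ ⊥ ∧ (H.index : ℤ) = Module.finrank k F := by
  refine ⟨IntermediateField.lift (IntermediateField.fixedField H), ?_, fun h => hH ?_, ?_⟩
  · exact Module.Finite.equiv (IntermediateField.liftAlgEquiv (IntermediateField.fixedField H)).toLinearEquiv
  · rw [← finrank_eq_card_fixing k K L H, h, IntermediateField.finrank_bot]
  · rw [finrank_eq_card_fixing]

end Groth.Agent.QsChow84
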