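import Groth.Prelude.Def_W4c4chowquasisplitPn2
import Groth.Agent.QsChow84.Kernel

/-! The three special presentations. -/

set_option autoImplicit false

open MvPolynomial QsChow

namespace Groth.Agent.QsChow84

variable {n : ℕ}

/-! ### exponents -/

theorem twoExp_spec (hn : 2 ≤ n) : n / 2 ^ twoExp n % 2 = 1 ∧ 2 ^ twoExp n * (n / 2 ^ twoExp n) = n := by
  have hd : 2 ^ twoExp n ∣ n := pow_padicValNat_dvd
  refine ⟨?_, Nat.mul_div_cancel' hd⟩
  by_contra h
  have h2 : 2 ^ (twoExp n + 1) ∣ n := by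
    obtain ⟨c, hc⟩ : 2 ∣ n / 2 ^ twoExp n := by omega
    exact ⟨c, by rw [pow_succ, mul_assoc, ← hc, Nat.mul_div_cancel' hd]⟩
  exact pow_succ_padicValNat_not_dvd (p := 2) (by omega) h2

theorem twoExp_eq {d k : ℕ} (hd : d % 2 = 1) (h : d * 2 ^ k = n) :
    twoExp n = k ∧ n / 2 ^ twoExp n = d := by
  have hk : twoExp n = k := by
    subst h
    rw [twoExp, padicValNat.mul (by omega) (by positivity), padicValNat.eq_zero_of_not_dvd (by omega),
      padicValNat.prime_pow, zero_add]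
  exact ⟨hk, by rw [hk, ← h, Nat.mul_div_cancel _ (Nat.two_pow_pos _)]⟩

theorem pow_klog_le {j : ℕ} (hn : 2 ≤ n) (h3 : 2 ≤ j) (hj : j ≤ numVars n) :
    (2 * j - 3) * 2 ^ klog n j < 2 * n := by
  have hd : 2 * j - 3 ≤ 2 * n - 1 := by unfold numVars at hj; omega
  have h := Nat.pow_log_le_self 2 (x := (2 * n - 1) / (2 * j - 3))
    (Nat.pos_iff_ne_zero.1 (Nat.div_pos hd (by omega)))
  rw [Nat.le_div_iff_mul_le (by omega)] at h
  unfold klog
  rw [mul_comm]
  omega

theorem kprime_eq_klog {j : ℕ} (hn : 2 ≤ n) (h3 : 3 ≤ j) (hj : j ≤ numVars n)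
    (hne : n < (2 * j - 3) * 2 ^ klog n j) : kprime n j = klog n j := by
  have hle := pow_klog_le hn (by omega) hj
  rw [kprime, if_neg (by omega), if_neg (by omega)]
  apply Nat.log_eq_of_pow_le_of_lt_pow
  · rw [Nat.le_div_iff_mul_le (by omega), mul_comm]; omega
  · rw [Nat.div_lt_iff_lt_mul (by omega),
      show 2 ^ (klog n j + 1) * (2 * j - 3) = 2 * ((2 * j - 3) * 2 ^ klog n j) by ring]
    omega

theorem klog_two_cases (hn : 2 ≤ n) :
    2 ^ klog n 2 = n ∨ (n < 2 ^ klog n 2 ∧ kprime n 2 + 1 = klog n 2) := by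
  have h1 := le_two_pow_klog hn (le_refl 2)
  norm_num at h1
  rcases eq_or_lt_of_le h1 with h | h
  · exact Or.inl h.symm
  · refine Or.inr ⟨h, ?_⟩
    have h2 := pow_klog_le hn (le_refl 2) (numVars_two hn)
    norm_num at h2
    have hk := klog_two_pos hn
    have : kprime n 2 = klog n 2 - 1 := by
      rw [kprime, if_neg (by norm_num), if_pos rfl]
      apply Nat.log_eq_of_pow_le_of_lt_pow
      · have : 2 ^ klog n 2 = 2 ^ (klog n 2 - 1) * 2 := by rw [← pow_succ, Nat.sub_add_cancel hk]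
        omega
      · rwa [Nat.sub_add_cancel hk]
    omega

/-! ### relations under a homomorphism killing a power of `e₁` -/

variable {R : Type} [CommRing R] (f : FreeE n →+* R)

theorem map_hrel_two {M c : ℕ} (hc : klog n 2 = c + 1) (hM : f (evar n 1) ^ M = 0)
    (hAX : f (evar n 1) * f (xvar n) = 0) (hlt : n < 2 ^ (c + 1)) (hMc : M ≤ 2 ^ c) :
    f (hrel n 2) = f (evar n 2) ^ 2 ^ c := by
  simp only [hrel, if_pos, sPoly, hc, Finset.sum_range_succ, map_add, map_mul, map_sum, map_pow,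
    Nat.sub_self, pow_zero, one_mul]
  obtain ⟨p, hp⟩ : ∃ p, 2 ^ (c + 1) - n = p + 1 := ⟨2 ^ (c + 1) - n - 1, by omega⟩
  rw [hp, pow_succ, mul_assoc, hAX, mul_zero, zero_add, Finset.sum_eq_zero, zero_add]
  intro t ht
  have h1 := Nat.pow_le_pow_right (show 0 < 2 by norm_num) (show t + 1 ≤ c from Finset.mem_range.1 ht)
  rw [pow_eq_zero_of_le (by rw [pow_succ 2 c]; omega) hM, zero_mul]

theorem map_hrel_ge {M j : ℕ} (h3 : 3 ≤ j) (hj : j ≤ numVars n) (hM : f (evar n 1) ^ M = 0)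
    (hMc : ∀ t < klog n j, M ≤ (2 * j - 4) * 2 ^ klog n j + (2 ^ klog n j - 2 ^ (t + 1))) :
    f (hrel n j) = f (evar n j) ^ 2 ^ klog n j +
      f (evar n 1) ^ ((2 * j - 3) * 2 ^ klog n j - n) * f (xvar n) := by
  rw [hrel, if_neg (by omega), if_pos ⟨h3, hj⟩]
  simp only [sPoly, Finset.mul_sum, map_add, map_mul, map_sum, map_pow]
  rw [Finset.sum_eq_zero, add_zero]
  intro t ht
  rw [← mul_assoc, ← pow_add, pow_eq_zero_of_le (hMc t (Finset.mem_range.1 ht)) hM, zero_mul]

theorem map_hrel_ge_lt {M j : ℕ} (h3 : 3 ≤ j) (hj : j ≤ numVars n) (hM : f (evar n 1) ^ M = 0)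
    (hAX : f (evar n 1) * f (xvar n) = 0) (hlt : n < (2 * j - 3) * 2 ^ klog n j)
    (hMc : ∀ t < klog n j, M ≤ (2 * j - 4) * 2 ^ klog n j + (2 ^ klog n j - 2 ^ (t + 1))) :
    f (hrel n j) = f (evar n j) ^ 2 ^ klog n j := by
  rw [map_hrel_ge f h3 hj hM hMc]
  obtain ⟨p, hp⟩ : ∃ p, (2 * j - 3) * 2 ^ klog n j - n = p + 1 :=
    ⟨(2 * j - 3) * 2 ^ klog n j - n - 1, by omega⟩
  rw [hp, pow_succ, mul_assoc, hAX, mul_zero, add_zero]

/-- Killing the presentation ideal: reduction to the generators. -/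
theorem presIdeal_le_ker_of (h1 : f (evar n 1) ^ n = 0) (h2 : f (evar n 1) * f (xvar n) = 0)
    (h3 : f (xvar n) ^ 2 = 0) (h4 : ∀ j, 2 ≤ j → j ≤ numVars n → f (hrel n j) = 0) :
    presIdeal n ≤ RingHom.ker f := by
  rw [presIdeal, Ideal.span_le]
  rintro q ((rfl | rfl | rfl) | ⟨i, rfl⟩) <;> rw [SetLike.mem_coe, RingHom.mem_ker]
  · rwa [map_pow]
  · rwa [map_mul]
  · rwa [map_pow]
  · obtain ⟨iv, hiv⟩ := i
    rcases Nat.eq_zero_or_pos iv with rfl | hpos
    · simp [hrel]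
    · exact h4 _ (by show 2 ≤ iv + 1; omega) (by show iv + 1 ≤ numVars n; omega)

/-! ### the ideals `(e₁^M) + presIdeal` -/

/-- The ideal `(e₁^M) + presIdeal`. -/
noncomputable def IM (n M : ℕ) : Ideal (FreeE n) := Ideal.span {evar n 1 ^ M} ⊔ presIdeal n

theorem mem_IM_iff (hn : 2 ≤ n) {τ : P n →ₐ[ZMod 2] P n} (h : IsTau τ) (M : ℕ) (q : FreeE n) :
    (∃ w : P n, τ w = w ∧ phi n q = eps n 1 ^ M * w) ↔ q ∈ IM n M := by
  constructor
  · rintro ⟨w, hw, hq⟩
    have hwr : w ∈ (phi n).range := by rw [h.phi_range hn]; exact hw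
    obtain ⟨r, rfl⟩ := hwr
    have hk : q - evar n 1 ^ M * r ∈ presIdeal n := by
      rw [← ker_phi hn, RingHom.mem_ker, map_sub, map_mul, map_pow, phi_e1 hn, hq]
      exact sub_self _
    rw [show q = evar n 1 ^ M * r + (q - evar n 1 ^ M * r) by ring]
    exact Submodule.add_mem_sup (Ideal.mem_span_singleton'.2 ⟨r, mul_comm _ _⟩) hk
  · intro hq
    obtain ⟨u, hu, v, hv, rfl⟩ := Submodule.mem_sup.1 hq
    obtain ⟨r, rfl⟩ := Ideal.mem_span_singleton'.1 hu
    refine ⟨phi n r, ?_, ?_⟩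
    · have : phi n r ∈ AlgHom.equalizer τ (AlgHom.id (ZMod 2) (P n)) := h.phi_range hn ▸ ⟨r, rfl⟩
      exact this
    · rw [map_add, map_mul, map_pow, phi_e1 hn, RingHom.mem_ker.1 (presIdeal_le_ker hn hv), add_zero]
      exact mul_comm _ _

theorem mkIM_eq_zero {M : ℕ} {q : FreeE n} (h : q ∈ presIdeal n) : Ideal.Quotient.mk (IM n M) q = 0 :=
  Ideal.Quotient.eq_zero_iff_mem.2 (Submodule.mem_sup_right h)

theorem mem_presIdeal {q : FreeE n}
    (h : q ∈ ({evar n 1 ^ n, evar n 1 * xvar n, xvar n ^ 2} : Set (FreeE n)) ∪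
      Set.range fun i : Fin (numVars n) => hrel n (i.val + 1)) : q ∈ presIdeal n :=
  Ideal.subset_span h

theorem hrel_mem {j : ℕ} (h2 : 2 ≤ j) (hj : j ≤ numVars n) : hrel n j ∈ presIdeal n :=
  mem_presIdeal (Or.inr ⟨⟨j - 1, by omega⟩, by
    show hrel n (j - 1 + 1) = _
    rw [Nat.sub_add_cancel (by omega : 1 ≤ j)]⟩)

/-! ### `n` odd -/

theorem odd_facts (hn : 2 ≤ n) (hodd : Odd n) :
    twoExp n = 0 ∧ n < 2 ^ klog n 2 ∧ kprime n 2 + 1 = klog n 2 ∧
      ∀ j, 3 ≤ j → j ≤ numVars n → n < (2 * j - 3) * 2 ^ klog n j := by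
  have hm : n % 2 = 1 := Nat.odd_iff.1 hodd
  have h0 : twoExp n = 0 := by
    rw [twoExp]; exact padicValNat.eq_zero_of_not_dvd (by omega)
  refine ⟨h0, ?_⟩
  have hne : 2 ^ klog n 2 ≠ n := fun h => by
    have h' := Nat.pow_mod 2 (klog n 2) 2
    obtain ⟨c, hc⟩ : ∃ c, klog n 2 = c + 1 :=
      ⟨klog n 2 - 1, (Nat.sub_add_cancel (klog_two_pos hn)).symm⟩
    rw [hc, pow_succ] at h
    omega
  rcases klog_two_cases hn with h | h
  · exact absurd h hne
  refine ⟨h.1, h.2, fun j h3 hj => lt_of_le_of_ne (le_two_pow_klog hn (by omega)) fun he => ?_⟩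
  have := twoExp_eq (d := 2 * j - 3) (by omega) he.symm
  rw [h0, pow_zero, Nat.div_one] at this
  unfold numVars at hj
  omega

theorem IM_one_eq (hn : 2 ≤ n) (hodd : Odd n) : IM n 1 = oddIdeal n := by
  obtain ⟨h0, hlt, hk2, hj3⟩ := odd_facts hn hodd
  have hMc : ∀ j, 3 ≤ j → ∀ t < klog n j,
      1 ≤ (2 * j - 4) * 2 ^ klog n j + (2 ^ klog n j - 2 ^ (t + 1)) := fun j h3 t _ => by
    have : 1 ≤ (2 * j - 4) * 2 ^ klog n j := Nat.mul_pos (by omega) (Nat.two_pow_pos _)
    omega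
  apply le_antisymm
  · have hA : Ideal.Quotient.mk (oddIdeal n) (evar n 1) = 0 :=
      Ideal.Quotient.eq_zero_iff_mem.2 (Ideal.subset_span (Or.inl (Or.inl rfl)))
    have hgen : ∀ j, 2 ≤ j → j ≤ numVars n →
        Ideal.Quotient.mk (oddIdeal n) (evar n j) ^ 2 ^ kprime n j = 0 := fun j h2 hj => by
      rw [← map_pow, Ideal.Quotient.eq_zero_iff_mem]
      exact Ideal.subset_span (Or.inr ⟨⟨j - 1, by omega⟩, by
        show evar n (j - 1 + 1) ^ _ = _
        rw [Nat.sub_add_cancel (by omega : 1 ≤ j)]⟩)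
    refine sup_le ((Ideal.span_le).2 (Set.singleton_subset_iff.2 ?_)) ?_
    · rw [pow_one]; exact Ideal.subset_span (Or.inl (Or.inl rfl))
    rw [← Ideal.mk_ker (I := oddIdeal n)]
    refine presIdeal_le_ker_of _ (by rw [hA, zero_pow (by omega)]) (by rw [hA, zero_mul])
      (by rw [← map_pow, Ideal.Quotient.eq_zero_iff_mem]; exact Ideal.subset_span (Or.inl (Or.inr rfl))) ?_
    intro j h2 hj
    rcases eq_or_lt_of_le h2 with rfl | h3
    · rw [map_hrel_two _ hk2.symm (M := 1) (by rw [pow_one, hA]) (by rw [hA, zero_mul]) (by rwa [hk2])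
        Nat.one_le_two_pow, hgen 2 le_rfl hj]
    · rw [map_hrel_ge_lt _ h3 hj (M := 1) (by rw [pow_one, hA]) (by rw [hA, zero_mul]) (hj3 j h3 hj)
        (hMc j h3), ← kprime_eq_klog hn h3 hj (hj3 j h3 hj), hgen j h2 hj]
  · have hA : Ideal.Quotient.mk (IM n 1) (evar n 1) ^ 1 = 0 := by
      rw [← map_pow, Ideal.Quotient.eq_zero_iff_mem]
      exact Submodule.mem_sup_left (Ideal.subset_span rfl)
    have hAX : Ideal.Quotient.mk (IM n 1) (evar n 1) * Ideal.Quotient.mk (IM n 1) (xvar n) = 0 := by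
      rw [← map_mul]; exact mkIM_eq_zero (mem_presIdeal (Or.inl (Or.inr (Or.inl rfl))))
    rw [oddIdeal, Ideal.span_le]
    rintro q ((rfl | rfl) | ⟨i, rfl⟩) <;> rw [SetLike.mem_coe, ← Ideal.Quotient.eq_zero_iff_mem]
    · rwa [pow_one] at hA
    · exact mkIM_eq_zero (mem_presIdeal (Or.inl (Or.inr (Or.inr rfl))))
    · rcases Nat.eq_zero_or_pos i.val with h | hpos
      · show Ideal.Quotient.mk (IM n 1) (evar n (i.val + 1) ^ 2 ^ kprime n (i.val + 1)) = 0
        rw [h, zero_add, kprime, if_pos rfl, h0, pow_zero, map_pow, hA]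
      · rw [map_pow]
        rcases eq_or_lt_of_le (show 2 ≤ i.val + 1 by omega) with h | h3
        · rw [← h, ← map_hrel_two _ hk2.symm (M := 1) hA hAX (by rwa [hk2]) Nat.one_le_two_pow]
          exact mkIM_eq_zero (hrel_mem le_rfl (numVars_two hn))
        · have hj : i.val + 1 ≤ numVars n := by omega
          rw [kprime_eq_klog hn h3 hj (hj3 _ h3 hj),
            ← map_hrel_ge_lt _ h3 hj (M := 1) hA hAX (hj3 _ h3 hj) (hMc _ h3)]
          exact mkIM_eq_zero (hrel_mem (by omega) hj)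

/-! ### substitution of `x` -/

/-- The inclusion of the polynomials without `x`. -/
noncomputable def incl (n : ℕ) : FreeP n →ₐ[ZMod 2] FreeE n := rename some

/-- The substitution `x ↦ T`. -/
noncomputable def subst (n : ℕ) (T : FreeP n) : FreeE n →ₐ[ZMod 2] FreeP n :=
  aeval fun o => match o with
    | none => T
    | some i => X i

theorem subst_x (T : FreeP n) : subst n T (xvar n) = T := by rw [subst, xvar, aeval_X]

theorem subst_evar (T : FreeP n) (j : ℕ) : subst n T (evar n j) = evarE n j := by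
  unfold evar evarE
  split_ifs with h
  · rw [subst, aeval_X]
  · rw [map_zero]

theorem incl_evarE (j : ℕ) : incl n (evarE n j) = evar n j := by
  unfold evar evarE
  split_ifs with h
  · rw [incl, rename_X]
  · rw [map_zero]

theorem subst_incl (T : FreeP n) (q : FreeP n) : subst n T (incl n q) = q := by
  rw [subst, incl, aeval_rename]
  exact aeval_X_left_apply q

theorem phi_incl (q : FreeP n) : phi n (incl n q) = psi n q := by
  rw [phi, incl, aeval_rename]; rfl

/-- A ring homomorphism agreeing with the substitution on `x` factors through it. -/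
theorem map_incl_subst {S : Type} [CommRing S] [Algebra (ZMod 2) S] (g : FreeE n →ₐ[ZMod 2] S)
    (T : FreeP n) (h : g (incl n T) = g (xvar n)) (r : FreeE n) : g (incl n (subst n T r)) = g r := by
  have : (g.comp (incl n)).comp (subst n T) = g := by
    refine algHom_ext fun o => ?_
    match o with
    | none => simpa [subst, xvar] using h
    | some i => simp [subst, incl]
  exact DFunLike.congr_fun this r

/-! ### `n` even, not a power of two -/

theorem even_facts (hn : 2 ≤ n) (ha : 1 ≤ twoExp n) (hne : n ≠ 2 ^ twoExp n) :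
    3 ≤ lIdx n ∧ lIdx n ≤ numVars n ∧ klog n (lIdx n) = twoExp n ∧ kprime n (lIdx n) = twoExp n + 1 ∧
      (2 * lIdx n - 3) * 2 ^ klog n (lIdx n) = n ∧ 3 * 2 ^ twoExp n ≤ n ∧ n < 2 ^ klog n 2 ∧
      kprime n 2 + 1 = klog n 2 ∧
      ∀ j, 3 ≤ j → j ≤ numVars n → j ≠ lIdx n → n < (2 * j - 3) * 2 ^ klog n j := by
  obtain ⟨hodd, hmul⟩ := twoExp_spec hn
  obtain ⟨d, hd⟩ : ∃ d, d = n / 2 ^ twoExp n := ⟨_, rfl⟩
  rw [← hd] at hodd hmul
  have hd3 : 3 ≤ d := by
    by_contra h
    have : d = 1 := by omega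
    rw [this, mul_one] at hmul
    exact hne hmul.symm
  have h2a : 2 ≤ 2 ^ twoExp n := by
    calc 2 = 2 ^ 1 := rfl
      _ ≤ _ := Nat.pow_le_pow_right (by norm_num) ha
  have hl : lIdx n = (d + 3) / 2 := by rw [hd]; rfl
  have hld : 2 * lIdx n - 3 = d := by omega
  have h2d : 2 * d ≤ n := by
    calc 2 * d ≤ 2 ^ twoExp n * d := Nat.mul_le_mul_right _ h2a
      _ = n := hmul
  have hl3 : 3 ≤ lIdx n := by omega
  have hls : lIdx n ≤ numVars n := by unfold numVars; omega
  have h3a : 3 * 2 ^ twoExp n ≤ n := by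
    calc 3 * 2 ^ twoExp n ≤ d * 2 ^ twoExp n := Nat.mul_le_mul_right _ hd3
      _ = n := by rw [mul_comm, hmul]
  have hk : klog n (lIdx n) = twoExp n := by
    rw [klog, hld]
    apply Nat.log_eq_of_pow_le_of_lt_pow
    · rw [Nat.le_div_iff_mul_le (by omega)]; omega
    · rw [Nat.div_lt_iff_lt_mul (by omega), pow_succ, mul_right_comm]; omega
  have hk' : kprime n (lIdx n) = twoExp n + 1 := by
    rw [kprime, if_neg (by omega), if_neg (by omega), hld]
    apply Nat.log_eq_of_pow_le_of_lt_pow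
    · rw [Nat.le_div_iff_mul_le (by omega), pow_succ, mul_right_comm]; omega
    · rw [Nat.div_lt_iff_lt_mul (by omega),
        show 2 ^ (twoExp n + 1 + 1) * d = 4 * (2 ^ twoExp n * d) by ring, hmul]
      omega
  have hne2 : 2 ^ klog n 2 ≠ n := fun h => by
    obtain ⟨hk, hd1⟩ := twoExp_eq (d := 1) (k := klog n 2) rfl (by rw [one_mul, h])
    omega
  rcases klog_two_cases hn with h | h
  · exact absurd h hne2
  refine ⟨hl3, hls, hk, hk', by rw [hld, hk, mul_comm, hmul], h3a, h.1, h.2, fun j h3 hj hjl => ?_⟩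
  refine lt_of_le_of_ne (le_two_pow_klog hn (by omega)) fun he => hjl ?_
  obtain ⟨-, hd'⟩ := twoExp_eq (d := 2 * j - 3) (by omega) he.symm
  omega

theorem even_bound (hn : 2 ≤ n) (h3a : 3 * 2 ^ twoExp n ≤ n) {j : ℕ} (h3 : 3 ≤ j) :
    2 ^ twoExp n ≤ (2 * j - 4) * 2 ^ klog n j := by
  have h := le_two_pow_klog hn (show 2 ≤ j by omega)
  have hsucc : (2 * j - 3) * 2 ^ klog n j = (2 * j - 4) * 2 ^ klog n j + 2 ^ klog n j := by
    rw [show 2 * j - 3 = 2 * j - 4 + 1 by omega, add_one_mul]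
  have h1 : 1 * 2 ^ klog n j ≤ (2 * j - 4) * 2 ^ klog n j := Nat.mul_le_mul_right _ (by omega)
  omega

section even

variable (hn : 2 ≤ n) (ha : 1 ≤ twoExp n) (hne : n ≠ 2 ^ twoExp n)

include hn ha hne

theorem incl_T_mkIM : Ideal.Quotient.mk (IM n (2 ^ twoExp n)) (incl n (evarE n (lIdx n) ^ 2 ^ twoExp n)) =
    Ideal.Quotient.mk (IM n (2 ^ twoExp n)) (xvar n) := by
  obtain ⟨hl3, hls, hk, hk', hl, h3a, hlt, hk2, hj3⟩ := even_facts hn ha hne
  have hA : Ideal.Quotient.mk (IM n (2 ^ twoExp n)) (evar n 1) ^ 2 ^ twoExp n = 0 := by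
    rw [← map_pow, Ideal.Quotient.eq_zero_iff_mem]
    exact Submodule.mem_sup_left (Ideal.subset_span rfl)
  have h0 := mkIM_eq_zero (M := 2 ^ twoExp n) (hrel_mem (by omega) hls)
  rw [map_hrel_ge _ hl3 hls hA (fun t _ => le_add_right (even_bound hn h3a hl3)), hl, Nat.sub_self,
    pow_zero, one_mul, hk] at h0
  have h2 : (2 : FreeE n ⧸ IM n (2 ^ twoExp n)) = 0 := by
    have : (algebraMap (ZMod 2) (FreeE n ⧸ IM n (2 ^ twoExp n))) 2 = 0 := by
      rw [show (2 : ZMod 2) = 0 from rfl, map_zero]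
    simpa [map_ofNat] using this
  rw [map_pow, incl_evarE, map_pow]
  linear_combination h0 - (Ideal.Quotient.mk (IM n (2 ^ twoExp n)) (xvar n)) * h2

theorem incl_mem_IM_iff (q : FreeP n) : incl n q ∈ IM n (2 ^ twoExp n) ↔ q ∈ evenIdeal n := by
  obtain ⟨hl3, hls, hk, hk', hl, h3a, hlt, hk2, hj3⟩ := even_facts hn ha hne
  have hMc : ∀ j, 3 ≤ j → ∀ t < klog n j,
      2 ^ twoExp n ≤ (2 * j - 4) * 2 ^ klog n j + (2 ^ klog n j - 2 ^ (t + 1)) :=
    fun j h3 t _ => le_add_right (even_bound hn h3a h3)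
  have hc2 : 2 ^ twoExp n ≤ 2 ^ kprime n 2 := by
    have : 2 ^ (kprime n 2 + 1) = 2 ^ kprime n 2 * 2 := pow_succ _ _
    rw [← hk2] at hlt
    omega
  constructor
  · let T : FreeP n := evarE n (lIdx n) ^ 2 ^ twoExp n
    let g : FreeE n →+* FreeP n ⧸ evenIdeal n :=
      (Ideal.Quotient.mk (evenIdeal n)).comp (subst n T).toRingHom
    have hg : ∀ j, g (evar n j) = Ideal.Quotient.mk (evenIdeal n) (evarE n j) := fun j =>
      congrArg (Ideal.Quotient.mk (evenIdeal n)) (subst_evar T j)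
    have hgx : g (xvar n) = Ideal.Quotient.mk (evenIdeal n) T :=
      congrArg (Ideal.Quotient.mk (evenIdeal n)) (subst_x T)
    have hgen : ∀ j, 1 ≤ j → j ≤ numVars n → g (evar n j) ^ 2 ^ kprime n j = 0 := fun j h1 hj => by
      rw [hg, ← map_pow, Ideal.Quotient.eq_zero_iff_mem]
      exact Ideal.subset_span (Or.inr ⟨⟨j - 1, by omega⟩, by
        show evarE n (j - 1 + 1) ^ _ = _
        rw [Nat.sub_add_cancel h1]⟩)
    have hA : g (evar n 1) ^ 2 ^ twoExp n = 0 := by
      simpa [kprime] using hgen 1 le_rfl (by omega)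
    have hAX : g (evar n 1) * g (xvar n) = 0 := by
      rw [hg, hgx, ← map_mul, Ideal.Quotient.eq_zero_iff_mem]
      exact Ideal.subset_span (Or.inl (by
        show _ = _
        rw [hk', Nat.add_sub_cancel]))
    have hker : IM n (2 ^ twoExp n) ≤ RingHom.ker g := by
      refine sup_le ((Ideal.span_le).2 (Set.singleton_subset_iff.2 ?_)) ?_
      · rw [SetLike.mem_coe, RingHom.mem_ker, map_pow, hA]
      refine presIdeal_le_ker_of g (pow_eq_zero_of_le (by omega) hA) hAX ?_ ?_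
      · rw [hgx, ← map_pow, ← pow_mul, ← pow_succ, ← hk', map_pow, ← hg]
        exact hgen _ (by omega) hls
      intro j h2 hj
      rcases eq_or_lt_of_le h2 with rfl | h3
      · rw [map_hrel_two g hk2.symm hA hAX (by rwa [hk2]) hc2]
        exact hgen 2 (by norm_num) hj
      rcases eq_or_ne j (lIdx n) with rfl | hjl
      · rw [map_hrel_ge g h3 hj hA (hMc _ h3), hl, Nat.sub_self, pow_zero, one_mul, hgx, hk, map_pow, hg]
        rw [← two_mul]
        have : (2 : FreeP n ⧸ evenIdeal n) = 0 := by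
          have : (algebraMap (ZMod 2) (FreeP n ⧸ evenIdeal n)) 2 = 0 := by
            rw [show (2 : ZMod 2) = 0 from rfl, map_zero]
          simpa [map_ofNat] using this
        rw [this, zero_mul]
      · rw [map_hrel_ge_lt g h3 hj hA hAX (hj3 j h3 hj hjl) (hMc j h3),
          ← kprime_eq_klog hn h3 hj (hj3 j h3 hj hjl)]
        exact hgen j (by omega) hj
    intro hq
    have h0 : g (incl n q) = 0 := RingHom.mem_ker.1 (hker hq)
    rw [← Ideal.Quotient.eq_zero_iff_mem]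
    simpa [g, subst_incl] using h0
  · intro hq
    let f := Ideal.Quotient.mk (IM n (2 ^ twoExp n))
    have hA : f (evar n 1) ^ 2 ^ twoExp n = 0 := by
      rw [← map_pow, Ideal.Quotient.eq_zero_iff_mem]
      exact Submodule.mem_sup_left (Ideal.subset_span rfl)
    have hAX : f (evar n 1) * f (xvar n) = 0 := by
      rw [← map_mul]; exact mkIM_eq_zero (mem_presIdeal (Or.inl (Or.inr (Or.inl rfl))))
    have hXX : f (xvar n) ^ 2 = 0 := by
      rw [← map_pow]; exact mkIM_eq_zero (mem_presIdeal (Or.inl (Or.inr (Or.inr rfl))))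
    have hx : f (evar n (lIdx n)) ^ 2 ^ twoExp n = f (xvar n) := by
      rw [← map_pow, ← incl_evarE, ← map_pow]
      exact incl_T_mkIM hn ha hne
    suffices h : evenIdeal n ≤ RingHom.ker (f.comp (incl n).toRingHom) from
      Ideal.Quotient.eq_zero_iff_mem.1 (RingHom.mem_ker.1 (h hq))
    rw [evenIdeal, Ideal.span_le]
    rintro r (rfl | ⟨i, rfl⟩) <;>
      simp only [SetLike.mem_coe, RingHom.mem_ker, RingHom.comp_apply, AlgHom.toRingHom_eq_coe,
        RingHom.coe_coe, map_mul, map_pow, incl_evarE]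
    · rw [hk', Nat.add_sub_cancel, hx, hAX]
    · have hj : i.val + 1 ≤ numVars n := by omega
      rcases Nat.eq_zero_or_pos i.val with h | hpos
      · rw [h, zero_add, kprime, if_pos rfl, hA]
      rcases eq_or_lt_of_le (show 2 ≤ i.val + 1 by omega) with h | h3
      · rw [← h, ← map_hrel_two f hk2.symm hA hAX (by rwa [hk2]) hc2]
        exact mkIM_eq_zero (hrel_mem le_rfl (numVars_two hn))
      rcases eq_or_ne (i.val + 1) (lIdx n) with h | hjl
      · rw [h, hk', pow_succ, pow_mul, hx, hXX]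
      · rw [kprime_eq_klog hn h3 hj (hj3 _ h3 hj hjl),
          ← map_hrel_ge_lt f h3 hj hA hAX (hj3 _ h3 hj hjl) (hMc _ h3)]
        exact mkIM_eq_zero (hrel_mem (by omega) hj)

end even

/-! ### `n` a power of two -/

theorem pow_facts (hn : 2 ≤ n) {b : ℕ} (hnb : n = 2 ^ b) :
    twoExp n = b ∧ klog n 2 = b ∧ kprime n 2 = b ∧
      (∀ j, 3 ≤ j → j ≤ numVars n → n < (2 * j - 3) * 2 ^ klog n j) ∧
      ∀ j, 3 ≤ j → j ≤ numVars n → ∀ t < klog n j,
        n ≤ (2 * j - 4) * 2 ^ klog n j + (2 ^ klog n j - 2 ^ (t + 1)) := by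
  obtain ⟨h0, h0'⟩ := twoExp_eq (n := n) (d := 1) (k := b) rfl (by rw [one_mul, hnb])
  have hk : klog n 2 = b := by
    have h1 := le_two_pow_klog hn (le_refl 2)
    have h2 := pow_klog_le hn (le_refl 2) (numVars_two hn)
    norm_num at h1 h2
    have hle : b ≤ klog n 2 := (Nat.pow_le_pow_iff_right (show 1 < 2 by norm_num)).1 (hnb.symm.trans_le h1)
    have hlt : klog n 2 < b + 1 :=
      (Nat.pow_lt_pow_iff_right (show 1 < 2 by norm_num)).1 (by rw [pow_succ, ← hnb]; omega)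
    omega
  have hj3 : ∀ j, 3 ≤ j → j ≤ numVars n → n < (2 * j - 3) * 2 ^ klog n j := fun j h3 hj =>
    lt_of_le_of_ne (le_two_pow_klog hn (by omega)) fun he => by
      obtain ⟨-, hd⟩ := twoExp_eq (d := 2 * j - 3) (by omega) he.symm
      omega
  refine ⟨h0, hk, ?_, hj3, fun j h3 hj t ht => ?_⟩
  · rw [kprime, if_neg (by norm_num), if_pos rfl, hnb, Nat.log_pow (by norm_num)]
  · have hlt := hj3 j h3 hj
    have hle := pow_klog_le hn (show 2 ≤ j by omega) hj
    have hkb : klog n j ≤ b := by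
      by_contra h
      have h' := Nat.pow_le_pow_right (show 0 < 2 by norm_num) (show b + 1 ≤ klog n j by omega)
      rw [pow_succ, ← hnb] at h'
      have := Nat.mul_le_mul (show 1 ≤ 2 * j - 3 by omega) h'
      omega
    obtain ⟨c, hc⟩ : 2 ^ klog n j ∣ n := (pow_dvd_pow 2 hkb).trans hnb.symm.dvd
    have hcd : c + 1 ≤ 2 * j - 3 := by
      by_contra h
      have := Nat.mul_le_mul_left (2 ^ klog n j) (show 2 * j - 3 ≤ c by omega)
      rw [← hc, mul_comm] at this
      omega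
    have h1 := Nat.mul_le_mul_left (2 ^ klog n j) hcd
    rw [mul_add, mul_one, ← hc, mul_comm] at h1
    have hsucc : (2 * j - 3) * 2 ^ klog n j = (2 * j - 4) * 2 ^ klog n j + 2 ^ klog n j := by
      rw [show 2 * j - 3 = 2 * j - 4 + 1 by omega, add_one_mul]
    have h2 := Nat.pow_le_pow_right (show 0 < 2 by norm_num) (show t + 1 ≤ klog n j from ht)
    omega

theorem map_sPoly_two_sq {b : ℕ} (hb : 1 ≤ b) (hnb : n = 2 ^ b) (hk : klog n 2 = b)
    (h2 : (2 : R) = 0) (hA : f (evar n 1) ^ n = 0) :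
    f (sPoly n 2) ^ 2 = f (evar n 2) ^ n := by
  obtain ⟨c, rfl⟩ : ∃ c, b = c + 1 := ⟨b - 1, by omega⟩
  simp only [sPoly, hk, map_sum, map_mul, map_pow]
  rw [sq_sum_of_two h2, Finset.sum_range_succ, Finset.sum_eq_zero, zero_add, Nat.sub_self, pow_zero,
    one_mul, ← pow_mul, ← pow_succ, ← hnb]
  intro t ht
  have h1 := Nat.pow_le_pow_right (show 0 < 2 by norm_num) (show t + 2 ≤ c + 1 from Nat.succ_le_succ (Finset.mem_range.1 ht))
  rw [mul_pow, ← pow_mul, pow_eq_zero_of_le (by rw [pow_succ 2 (t + 1)] at h1; omega) hA, zero_mul]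

theorem psi_subst (hn : 2 ≤ n) {b : ℕ} (hnb : n = 2 ^ b) (r : FreeE n) :
    psi n (subst n (∑ t ∈ Finset.range b, evarE n 1 ^ (2 ^ b - 2 ^ (t + 1)) * evarE n 2 ^ 2 ^ t) r) =
      phi n r := by
  obtain ⟨h0, hk, hk', hj3, hMc⟩ := pow_facts hn hnb
  rw [← phi_incl]
  refine map_incl_subst (phi n) _ ?_ r
  have hh := RingHom.mem_ker.1 (presIdeal_le_ker hn (hrel_mem le_rfl (numVars_two hn)))
  simp only [hrel, if_pos, map_add, map_mul, map_pow, hk, ← hnb, Nat.sub_self, pow_zero, one_mul] at hh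
  have hs : phi n (sPoly n 2) = phi n (incl n
      (∑ t ∈ Finset.range b, evarE n 1 ^ (2 ^ b - 2 ^ (t + 1)) * evarE n 2 ^ 2 ^ t)) := by
    simp only [sPoly, hk, map_sum, map_mul, map_pow, incl_evarE]
  rw [← hs]
  linear_combination hh - phi n (xvar n) * two_eq_zero n

theorem ker_psi_pow (hn : 2 ≤ n) {b : ℕ} (hb : 1 ≤ b) (hnb : n = 2 ^ b) :
    RingHom.ker (psi n) = powIdeal n := by
  obtain ⟨h0, hk, hk', hj3, hMc⟩ := pow_facts hn hnb
  apply le_antisymm
  · intro q hq
    let T : FreeP n := ∑ t ∈ Finset.range b, evarE n 1 ^ (2 ^ b - 2 ^ (t + 1)) * evarE n 2 ^ 2 ^ t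
    let g : FreeE n →+* FreeP n ⧸ powIdeal n :=
      (Ideal.Quotient.mk (powIdeal n)).comp (subst n T).toRingHom
    have h2 : (2 : FreeP n ⧸ powIdeal n) = 0 := by
      have : (algebraMap (ZMod 2) (FreeP n ⧸ powIdeal n)) 2 = 0 := by
        rw [show (2 : ZMod 2) = 0 from rfl, map_zero]
      simpa [map_ofNat] using this
    have hg : ∀ j, g (evar n j) = Ideal.Quotient.mk (powIdeal n) (evarE n j) := fun j =>
      congrArg (Ideal.Quotient.mk (powIdeal n)) (subst_evar T j)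
    have hgen : ∀ j, 1 ≤ j → j ≤ numVars n → g (evar n j) ^ 2 ^ kprime n j = 0 := fun j h1 hj => by
      rw [hg, ← map_pow, Ideal.Quotient.eq_zero_iff_mem]
      exact Ideal.subset_span (Or.inr ⟨⟨j - 1, by omega⟩, by
        show evarE n (j - 1 + 1) ^ _ = _
        rw [Nat.sub_add_cancel h1]⟩)
    have hA : g (evar n 1) ^ n = 0 := by
      simpa [kprime, h0, ← hnb] using hgen 1 le_rfl (by have := numVars_two hn; omega)
    have hS : g (sPoly n 2) = g (xvar n) := by
      show Ideal.Quotient.mk _ (subst n T (sPoly n 2)) = Ideal.Quotient.mk _ (subst n T (xvar n))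
      rw [subst_x]
      simp only [sPoly, hk, map_sum, map_mul, map_pow, subst_evar, T]
    have hAX : g (evar n 1) * g (xvar n) = 0 := by
      rw [← map_mul]
      show Ideal.Quotient.mk _ (subst n T (evar n 1 * xvar n)) = 0
      rw [Ideal.Quotient.eq_zero_iff_mem, map_mul, subst_evar, subst_x]
      refine Ideal.subset_span (Or.inl ?_)
      rw [hk']
      exact rfl
    have hker : presIdeal n ≤ RingHom.ker g := by
      refine presIdeal_le_ker_of g hA hAX ?_ ?_
      · rw [← hS, map_sPoly_two_sq g hb hnb hk h2 hA]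
        simpa [hk', ← hnb] using hgen 2 (by norm_num) (numVars_two hn)
      intro j h2' hj
      rcases eq_or_lt_of_le h2' with rfl | h3
      · simp only [hrel, if_pos, map_add, map_mul, map_pow, hk, ← hnb, Nat.sub_self, pow_zero, one_mul, hS]
        rw [← two_mul, h2, zero_mul]
      · rw [map_hrel_ge_lt g h3 hj hA hAX (hj3 j h3 hj) (hMc j h3 hj),
          ← kprime_eq_klog hn h3 hj (hj3 j h3 hj)]
        exact hgen j (by omega) hj
    have hq' : incl n q ∈ presIdeal n := by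
      rw [← ker_phi hn, RingHom.mem_ker, phi_incl]; exact RingHom.mem_ker.1 hq
    rw [← Ideal.Quotient.eq_zero_iff_mem]
    have h := RingHom.mem_ker.1 (hker hq')
    simpa [g, subst_incl] using h
  · let f : FreeE n →+* P n := (phi n).toRingHom
    have hf : ∀ q ∈ presIdeal n, f q = 0 := fun q hq => RingHom.mem_ker.1 (presIdeal_le_ker hn hq)
    have hA : f (evar n 1) ^ n = 0 := by rw [← map_pow]; exact hf _ (mem_presIdeal (Or.inl (Or.inl rfl)))
    have hAX : f (evar n 1) * f (xvar n) = 0 := by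
      rw [← map_mul]; exact hf _ (mem_presIdeal (Or.inl (Or.inr (Or.inl rfl))))
    have hS : f (sPoly n 2) = f (xvar n) := by
      have hh := hf _ (hrel_mem le_rfl (numVars_two hn))
      simp only [hrel, if_pos, map_add, map_mul, map_pow, hk, ← hnb, Nat.sub_self, pow_zero, one_mul] at hh
      linear_combination hh - f (xvar n) * two_eq_zero n
    rw [powIdeal, Ideal.span_le]
    rintro r (rfl | ⟨i, rfl⟩) <;> rw [SetLike.mem_coe, RingHom.mem_ker, ← phi_incl]
    · show f _ = 0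
      rw [map_mul, incl_evarE, hk', map_mul, ← hAX, ← hS]
      simp only [sPoly, hk, map_sum, map_mul, map_pow, incl_evarE]
    · show f _ = 0
      simp only [map_pow, incl_evarE]
      have hj : i.val + 1 ≤ numVars n := by omega
      rcases Nat.eq_zero_or_pos i.val with h | hpos
      · rw [h, zero_add, kprime, if_pos rfl, h0, ← hnb, hA]
      rcases eq_or_lt_of_le (show 2 ≤ i.val + 1 by omega) with h | h3
      · rw [← h, hk', ← hnb, ← map_sPoly_two_sq f hb hnb hk (two_eq_zero n) hA, hS, ← map_pow]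
        exact hf _ (mem_presIdeal (Or.inl (Or.inr (Or.inr rfl))))
      · rw [kprime_eq_klog hn h3 hj (hj3 _ h3 hj),
          ← map_hrel_ge_lt f h3 hj hA hAX (hj3 _ h3 hj) (hMc _ h3 hj)]
        exact hf _ (hrel_mem (by omega) hj)

end Groth.Agent.QsChow84
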